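import Groth.Agent.AlgSpDec.MonoPoint
import Groth.Agent.AlgSpDec.Fibres
import Groth.Agent.VarGeom.OpenMap
import Groth.Agent.AlgSpLib.Descent2

/-!
# Locally noetherian fibres over field-valued points
-/

set_option backward.isDefEq.respectTransparency false
set_option backward.isDefEq.respectTransparency.types false

open CategoryTheory Limits Opposite AlgebraicGeometry MorphismProperty AlgSp Groth.Agent.AlgSpLib
  Groth.Agent.AlgSpPts Topology

namespace Groth.Agent.AlgSpQ4

universe u

variable {S : Scheme.{u}}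

/-- Local noetherianness ascends along representable morphisms locally of finite type. -/
theorem isLocNoethSp_of_repWith_lft {P' P : Sp S} (g : P' ⟶ P) (hg : RepWith @LocallyOfFiniteType g)
    (h : IsLocNoethSp P) : IsLocNoethSp P' := by
  obtain ⟨W, c, hc, hc', hW⟩ := h
  have : LocallyOfFiniteType (hg.rep.snd c).left := hg.property_snd c
  exact ⟨hg.rep.pullback c, hg.rep.fst c, repWith_of_isPullback (hg.rep.isPullback c).flip hc,
    repWith_of_isPullback (hg.rep.isPullback c).flip hc',
    LocallyOfFiniteType.isLocallyNoetherian (hg.rep.snd c).left⟩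

/-- Local noetherianness descends along representable flat surjective universally open morphisms. -/
theorem isLocNoethSp_of_repWith_flat {P' P : Sp S} (hP : IsAlgSpace P) (g : P' ⟶ P)
    (hf : RepWith @Flat g) (hs : RepWith @Surjective g) (hu : RepWith @UniversallyOpen g)
    (h : IsLocNoethSp P') : IsLocNoethSp P := by
  obtain ⟨W, c, hc, hc'⟩ := hP.atlas
  have : IsLocallyNoetherian (hf.rep.pullback c).left :=
    AlgSpDec.isLocallyNoetherian_chart (repWith_of_isPullback (hf.rep.isPullback c).flip hc) h
  have : Flat (hf.rep.snd c).left := hf.property_snd c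
  have : Surjective (hf.rep.snd c).left := hs.property _ _ _ (hf.rep.isPullback c)
  have : UniversallyOpen (hf.rep.snd c).left := hu.property _ _ _ (hf.rep.isPullback c)
  exact ⟨W, c, hc, hc', isLocallyNoetherian_of_flat (hf.rep.snd c).left⟩

/-- Local noetherianness of a fibre over a field descends along field extensions. -/
theorem isLocNoethSp_of_field_ext {k L : Type u} [Field k] [Field L] {σ : Spec (CommRingCat.of k) ⟶ S}
    {τ : Spec (CommRingCat.of L) ⟶ S} (z : Over.mk τ ⟶ Over.mk σ) {P' P : Sp S} (hP : IsAlgSpace P)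
    {g : P' ⟶ P} {s' : P' ⟶ (yon S).obj (Over.mk τ)} {s : P ⟶ (yon S).obj (Over.mk σ)}
    (sq : IsPullback g s' s ((yon S).map z)) (h : IsLocNoethSp P') : IsLocNoethSp P := by
  let z' : Spec (CommRingCat.of L) ⟶ Spec (CommRingCat.of k) := z.left
  have hU : UniversallyOpen z' := VarGeom.universallyOpen_of_field z'
  have hs : Surjective z' := by
    have : Subsingleton ↥(Spec (CommRingCat.of k)) := inferInstanceAs (Subsingleton (PrimeSpectrum k))
    exact ⟨fun y => ⟨IsLocalRing.closedPoint L, Subsingleton.elim _ _⟩⟩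
  have hf : Flat z' := by
    have : Subsingleton ↥(Spec (CommRingCat.of k)) := inferInstanceAs (Subsingleton (PrimeSpectrum k))
    infer_instance
  have key : ∀ (R : MorphismProperty Scheme.{u}) [R.IsStableUnderBaseChange], R z' → RepWith R g :=
    fun R _ hR => repWith_of_isPullback sq.flip ((repWith_yon_map_iff R z).2 hR)
  exact isLocNoethSp_of_repWith_flat hP g (key _ hf) (key _ hs) (key _ hU) h

/-- Local noetherianness of a fibre over a field ascends along finitely generated field extensions. -/
theorem isLocNoethSp_of_field_ext_lft {k L : Type u} [Field k] [Field L] {σ : Spec (CommRingCat.of k) ⟶ S}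
    {τ : Spec (CommRingCat.of L) ⟶ S} (z : Over.mk τ ⟶ Over.mk σ) [LocallyOfFiniteType z.left] {P' P : Sp S}
    {g : P' ⟶ P} {s' : P' ⟶ (yon S).obj (Over.mk τ)} {s : P ⟶ (yon S).obj (Over.mk σ)}
    (sq : IsPullback g s' s ((yon S).map z)) (h : IsLocNoethSp P) : IsLocNoethSp P' :=
  isLocNoethSp_of_repWith_lft g
    (repWith_of_isPullback sq.flip ((repWith_yon_map_iff @LocallyOfFiniteType z).2 ‹_›)) h

/-- Changing the field point: the fibre over a point which maps to another one. -/
theorem isLocNoethSp_fibre_descend {X Y : Sp S} (hX : IsAlgSpace X) (hY : IsAlgSpace Y) (f : X ⟶ Y)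
    {k L : Type u} [Field k] [Field L] {σ : Spec (CommRingCat.of k) ⟶ S}
    {τ : Spec (CommRingCat.of L) ⟶ S} (z : Over.mk τ ⟶ Over.mk σ)
    (a : (yon S).obj (Over.mk σ) ⟶ Y) (b : (yon S).obj (Over.mk τ) ⟶ Y) (hz : (yon S).map z ≫ a = b)
    {Q : Sp S} {qf : Q ⟶ X} {qs : Q ⟶ (yon S).obj (Over.mk σ)} (hQ : IsPullback qf qs f a)
    (h : IsLocNoethSp (pullback f b)) : IsLocNoethSp Q := by
  let g : pullback f b ⟶ Q := hQ.lift (pullback.fst f b) (pullback.snd f b ≫ (yon S).map z)
    (by rw [pullback.condition, Category.assoc, hz])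
  have sq : IsPullback g (pullback.snd f b) qs ((yon S).map z) := by
    refine IsPullback.of_right ?_ (hQ.lift_snd _ _ _) hQ
    rw [IsPullback.lift_fst, hz]
    exact IsPullback.of_hasPullback f b
  exact isLocNoethSp_of_field_ext z (isAlgSpace_of_isPullback hQ hX (IsAlgSpace.yon_obj _) hY) sq h

/-- Changing the field point along a finitely generated extension. -/
theorem isLocNoethSp_fibre_ascend {X Y : Sp S} (f : X ⟶ Y)
    {k L : Type u} [Field k] [Field L] {σ : Spec (CommRingCat.of k) ⟶ S}
    {τ : Spec (CommRingCat.of L) ⟶ S} (z : Over.mk τ ⟶ Over.mk σ) [LocallyOfFiniteType z.left]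
    (a : (yon S).obj (Over.mk σ) ⟶ Y) (b : (yon S).obj (Over.mk τ) ⟶ Y) (hz : (yon S).map z ≫ a = b)
    (h : IsLocNoethSp (pullback f a)) : IsLocNoethSp (pullback f b) := by
  let g : pullback f b ⟶ pullback f a := pullback.lift (pullback.fst f b)
    (pullback.snd f b ≫ (yon S).map z) (by rw [pullback.condition, Category.assoc, hz])
  have sq : IsPullback g (pullback.snd f b) (pullback.snd f a) ((yon S).map z) := by
    refine IsPullback.of_right ?_ (pullback.lift_snd _ _ _) (IsPullback.of_hasPullback f a)
    rw [pullback.lift_fst, hz]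
    exact IsPullback.of_hasPullback f b
  exact isLocNoethSp_of_field_ext_lft z sq h

/-- A monomorphic field point factors every field point in its class. -/
theorem exists_factor_mono_fieldPt {Y : Sp S} (hY : IsAlgSpace Y) (p p₀ : FieldPt Y) [Mono p₀.toHom]
    (h : Points.mk p = Points.mk p₀) : ∃ j : p.pt ⟶ p₀.pt, (yon S).map j ≫ p₀.toHom = p.toHom := by
  have sq := IsPullback.of_hasPullback p₀.toHom p.toHom
  rw [mk_eq_ofPt, mk_eq_ofPt, Points.ofPt_eq_map_ofScheme p.toHom, Points.ofPt_eq_map_ofScheme p₀.toHom] at h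
  obtain ⟨z, -, -⟩ := exists_point_of_isPullback sq h.symm
  have := AlgSpDec.isIso_of_mono_field
    (isAlgSpace_pullback (IsAlgSpace.yon_obj p₀.pt) (IsAlgSpace.yon_obj p.pt) hY p₀.toHom p.toHom)
    (pullback.snd p₀.toHom p.toHom) z
  obtain ⟨j, hj⟩ := (yon S).map_surjective (inv (pullback.snd p₀.toHom p.toHom) ≫ pullback.fst p₀.toHom p.toHom)
  exact ⟨j, by rw [hj, Category.assoc, pullback.condition, IsIso.inv_hom_id_assoc]⟩

/-- A field point and the residue field of an étale chart point in the same class have a common finite extension. -/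
theorem exists_common_lft {Y : Sp S} (p : FieldPt Y) {V : Over S} (b : (yon S).obj V ⟶ Y)
    (hb : RepWith @Etale b) (v : ↥V.left) (hv : Points.ofPt b v = Points.mk p) :
    ∃ (L : Type u) (_ : Field L) (τ : Spec (CommRingCat.of L) ⟶ S) (zp : Over.mk τ ⟶ p.pt)
      (zv : Over.mk τ ⟶ (FieldPt.ofPt b v).pt), LocallyOfFiniteType zp.left ∧
      (yon S).map zp ≫ p.toHom = (yon S).map zv ≫ (FieldPt.ofPt b v).toHom := by
  let VK := hb.rep.pullback p.toHom
  let q : VK ⟶ p.pt := hb.rep.snd p.toHom
  let r : VK ⟶ V := hb.rep.fst' p.toHom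
  have hq : Etale q.left := hb.property_snd _
  have sq : IsPullback ((yon S).map r) ((yon S).map q) b p.toHom := hb.rep.isPullback' _
  obtain ⟨w, hw, -⟩ := exists_ofPt_of_eq sq (hv.trans (mk_eq_ofPt p))
  have : DiscreteTopology ↥VK.left := by
    let q' : VK.left ⟶ Spec (CommRingCat.of p.K) := q.left
    have : Etale q' := hq
    have : LocallyQuasiFinite q' := inferInstance
    have : Subsingleton ↥(Spec (CommRingCat.of p.K)) := inferInstanceAs (Subsingleton (PrimeSpectrum p.K))
    refine isDiscrete_univ_iff.1 ?_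
    have hu : q' ⁻¹' {IsLocalRing.closedPoint p.K} = Set.univ :=
      Set.eq_univ_of_forall fun x => Subsingleton.elim _ _
    exact hu ▸ q'.isDiscrete_preimage_singleton _
  subst hw
  let e := VK.left.fromSpecResidueField w
  have : IsClosedImmersion e := isClosed_singleton_iff_isClosedImmersion.1 (isClosed_discrete _)
  let τ : Spec (VK.left.residueField w) ⟶ S := e ≫ VK.hom
  let ω : Over.mk τ ⟶ VK := Over.homMk e rfl
  refine ⟨VK.left.residueField w, inferInstance, τ, ω ≫ q,
    Over.homMk (Spec.map (r.left.residueFieldMap w)) ?_, ?_, ?_⟩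
  · show Spec.map (r.left.residueFieldMap w) ≫ V.left.fromSpecResidueField (r.left w) ≫ V.hom = τ
    rw [Scheme.Hom.SpecMap_residueFieldMap_fromSpecResidueField_assoc, Over.w r]
  · show LocallyOfFiniteType (e ≫ q.left)
    infer_instance
  · rw [FieldPt.toHom_ofPt, Functor.map_comp, Category.assoc, ← sq.w, ← Category.assoc,
      ← Category.assoc, ← Functor.map_comp, ← Functor.map_comp]
    congr 2
    exact Over.OverMorphism.ext
      (Scheme.Hom.SpecMap_residueFieldMap_fromSpecResidueField r.left w).symm

end Groth.Agent.AlgSpQ4
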