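import Groth.Agent.S0536
import Mathlib.AlgebraicGeometry.Morphisms.Smooth
import Mathlib.RingTheory.Henselian

/-!
# Sections of smooth schemes over henselian local rings
-/

set_option backward.isDefEq.respectTransparency false
set_option backward.isDefEq.respectTransparency.types false

universe u

open CategoryTheory AlgebraicGeometry Polynomial IsLocalRing

namespace Groth.Agent.AlgSpQ4

variable {R : Type u} [CommRing R] [HenselianLocalRing R]

/-- A henselian local ring is henselian along every proper ideal. -/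
theorem henselianRing_of_ne_top (a : Ideal R) (ha : a ≠ ⊤) : HenselianRing R a where
  jac := (IsLocalRing.le_maximalIdeal ha).trans (HenselianRing.jac (R := R) (I := maximalIdeal R))
  is_henselian := by
    intro f hf a₀ h₁ h₂
    have hm := IsLocalRing.le_maximalIdeal ha
    have h₂' : IsUnit (f.derivative.eval a₀) := by
      by_contra hu
      have h0 : Ideal.Quotient.factor hm (Ideal.Quotient.mk a (f.derivative.eval a₀)) = 0 := by
        rw [Ideal.Quotient.factor_mk, Ideal.Quotient.eq_zero_iff_mem]; exact hu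
      exact not_isUnit_zero (h0 ▸ h₂.map (Ideal.Quotient.factor hm))
    obtain ⟨r, hr, hrm⟩ := HenselianLocalRing.is_henselian f hf a₀ (hm h₁) h₂'
    refine ⟨r, hr, ?_⟩
    obtain ⟨k, hk⟩ : ∃ k, f.eval r = f.eval a₀ + f.derivative.eval a₀ * (r - a₀) + k * (r - a₀) ^ 2 :=
      ⟨(f.binomExpansion a₀ (r - a₀)).1, by
        have := (f.binomExpansion a₀ (r - a₀)).2
        convert this using 2
        ring⟩
    have hu : IsUnit (f.derivative.eval a₀ + k * (r - a₀)) := by
      have hsub : f.derivative.eval a₀ = (f.derivative.eval a₀ + k * (r - a₀)) - k * (r - a₀) := by ring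
      by_contra hu
      have hd : f.derivative.eval a₀ ∈ maximalIdeal R := by
        rw [hsub]; exact Ideal.sub_mem _ hu (Ideal.mul_mem_left _ _ hrm)
      exact hd h₂'
    have hc := hk
    rw [hr.eq_zero] at hc
    have : (f.derivative.eval a₀ + k * (r - a₀)) * (r - a₀) = -f.eval a₀ := by linear_combination -hc
    exact (Ideal.unit_mul_mem_iff_mem a hu).1 (this ▸ a.neg_mem h₁)

/-- A nonzero quotient of a henselian local ring is henselian local. -/
theorem henselianLocalRing_quotient (a : Ideal R) (ha : a ≠ ⊤) : HenselianLocalRing (R ⧸ a) := by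
  have : Nontrivial (R ⧸ a) := Ideal.Quotient.nontrivial_iff.2 ha
  have : IsLocalRing (R ⧸ a) := IsLocalRing.of_surjective' _ Ideal.Quotient.mk_surjective
  have : IsLocalHom (Ideal.Quotient.mk a) :=
    isLocalHom_of_le_jacobson_bot a (henselianRing_of_ne_top a ha).jac
  refine ⟨fun f hf a₀ h₁ h₂ => ?_⟩
  have hl : f ∈ Polynomial.lifts (Ideal.Quotient.mk a) :=
    (Polynomial.lifts_iff_coeff_lifts f).2 fun n => Ideal.Quotient.mk_surjective _
  obtain ⟨g, rfl, -, hg⟩ := Polynomial.lifts_and_natDegree_eq_and_monic hl hf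
  obtain ⟨b₀, rfl⟩ := Ideal.Quotient.mk_surjective a₀
  rw [Polynomial.eval_map, Polynomial.eval₂_at_apply] at h₁
  rw [Polynomial.derivative_map, Polynomial.eval_map, Polynomial.eval₂_at_apply] at h₂
  obtain ⟨b, hb, hbm⟩ := HenselianLocalRing.is_henselian g hg b₀
    (fun hu => h₁ (hu.map _)) ((isUnit_map_iff (Ideal.Quotient.mk a) _).1 h₂)
  refine ⟨Ideal.Quotient.mk a b, ?_, ?_⟩
  · rw [IsRoot.def, Polynomial.eval_map, Polynomial.eval₂_at_apply, hb.eq_zero, map_zero]
  · rw [← map_sub]
    exact fun hu => hbm ((isUnit_map_iff (Ideal.Quotient.mk a) _).1 hu)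

/-- A smooth scheme over a henselian local ring has a section through every point over a proper quotient. -/
theorem exists_section_smooth (a : Ideal R) (ha : a ≠ ⊤) {U : Scheme.{u}}
    (f : U ⟶ Spec (CommRingCat.of R)) [Smooth f] (u : Spec (CommRingCat.of (R ⧸ a)) ⟶ U)
    (hu : u ≫ f = Spec.map (CommRingCat.ofHom (Ideal.Quotient.mk a))) :
    ∃ σ : Spec (CommRingCat.of R) ⟶ U, σ ≫ f = 𝟙 _ ∧
      Spec.map (CommRingCat.ofHom (Ideal.Quotient.mk a)) ≫ σ = u := by
  have : Nontrivial (R ⧸ a) := Ideal.Quotient.nontrivial_iff.2 ha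
  have hloc : IsLocalRing (R ⧸ a) := IsLocalRing.of_surjective' _ Ideal.Quotient.mk_surjective
  obtain ⟨S, j, hj, hmem, -⟩ := Scheme.exists_affine_mem_range_and_range_subset
    (x := u.base (closedPoint (R ⧸ a))) (U := (⊤ : U.Opens)) (by simp)
  let u' := IsOpenImmersion.lift j u (by
    rintro _ ⟨t, rfl⟩
    exact ((IsLocalRing.specializes_closedPoint t).map u.continuous).mem_open j.isOpenEmbedding.isOpen_range hmem)
  have hu' : u' ≫ j = u := IsOpenImmersion.lift_fac _ _ _
  obtain ⟨φR, hφR⟩ := Spec.map_surjective (j ≫ f)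
  obtain ⟨φu, hφu⟩ := Spec.map_surjective u'
  algebraize [φR.hom]
  have : Algebra.Smooth R S := by
    have h : Smooth (Spec.map φR) := by rw [hφR]; infer_instance
    exact (HasRingHomProperty.Spec_iff (P := @Smooth)).mp h
  have hcomp : φR ≫ φu = CommRingCat.ofHom (Ideal.Quotient.mk a) := by
    apply Spec.map_injective
    rw [Spec.map_comp, hφR, hφu, ← Category.assoc, hu', hu]
  let φ : S →ₐ[R] R ⧸ a := { φu.hom with commutes' := fun r => congr(($hcomp).hom r) }
  have := henselianRing_of_ne_top a ha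
  obtain ⟨τ, hτ⟩ := Groth.Agent.S0536.result R S R a φ
  have hτR : φR ≫ CommRingCat.ofHom τ.toRingHom = 𝟙 _ := by
    ext r; exact τ.commutes r
  have hτu : CommRingCat.ofHom τ.toRingHom ≫ CommRingCat.ofHom (Ideal.Quotient.mk a) = φu := by
    ext s; exact congr($hτ s)
  refine ⟨Spec.map (CommRingCat.ofHom τ.toRingHom) ≫ j, ?_, ?_⟩
  · rw [Category.assoc, ← hφR, ← Spec.map_comp, hτR, Spec.map_id]
  · rw [← Category.assoc, ← Spec.map_comp, hτu, hφu, hu']

end Groth.Agent.AlgSpQ4
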