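import Groth.Agent.AlgSpQ4.Elementary
import Groth.Agent.AlgSpQ4.HensSection
import Groth.Agent.EtFound.Henselian
import Groth.Agent.AlgSpLib.EtaleSmoothLocal

/-!
# Lifts of points over henselian local rings to étale charts
-/

set_option backward.isDefEq.respectTransparency false
set_option backward.isDefEq.respectTransparency.types false

universe u

open CategoryTheory Limits AlgebraicGeometry AlgSp Groth.Agent.AlgSpLib Groth.Agent.AlgSpPts Groth.Agent.AlgSpDec

namespace Groth.Agent.AlgSpQ4

variable {S : Scheme.{u}} {X : Sp S}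

/-- The closed point of the spectrum of a local ring over `S`. -/
noncomputable abbrev closedOver (R : Type u) [CommRing R] [IsLocalRing R] (str : Spec (CommRingCat.of R) ⟶ S) :
    Over S :=
  Over.mk (Spec.map (CommRingCat.ofHom (IsLocalRing.residue R)) ≫ str)

/-- The inclusion of the closed point. -/
noncomputable abbrev closedIncl (R : Type u) [CommRing R] [IsLocalRing R] (str : Spec (CommRingCat.of R) ⟶ S) :
    closedOver R str ⟶ Over.mk str :=
  Over.homMk (Spec.map (CommRingCat.ofHom (IsLocalRing.residue R))) rfl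

/-- The spectrum of a quotient over `S`. -/
noncomputable abbrev quotOver {R : Type u} [CommRing R] (a : Ideal R) (str : Spec (CommRingCat.of R) ⟶ S) :
    Over S :=
  Over.mk (Spec.map (CommRingCat.ofHom (Ideal.Quotient.mk a)) ≫ str)

theorem exists_quot_residue {R : Type u} [CommRing R] [IsLocalRing R] (a : Ideal R) [IsLocalRing (R ⧸ a)]
    (ha : a ≠ ⊤) (str : Spec (CommRingCat.of R) ⟶ S) :
    ∃ e : closedOver (R ⧸ a) (quotOver a str).hom ⟶ closedOver R str, IsIso e ∧
      e ≫ closedIncl R str = closedIncl (R ⧸ a) (quotOver a str).hom ≫ Over.homMk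
        (U := Over.mk (quotOver a str).hom) (V := Over.mk str)
        (Spec.map (CommRingCat.ofHom (Ideal.Quotient.mk a))) rfl := by
  have : IsLocalHom (Ideal.Quotient.mk a) := isLocalHom_of_le_jacobson_bot a
    ((IsLocalRing.le_maximalIdeal ha).trans (IsLocalRing.jacobson_eq_maximalIdeal ⊥ bot_ne_top).ge)
  let e₀ := IsLocalRing.ResidueField.map (Ideal.Quotient.mk a)
  have he : Function.Bijective e₀ := by
    refine ⟨e₀.injective, fun y => ?_⟩
    obtain ⟨x, rfl⟩ := IsLocalRing.residue_surjective y
    obtain ⟨x, rfl⟩ := Ideal.Quotient.mk_surjective x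
    exact ⟨IsLocalRing.residue R x, rfl⟩
  let E := (RingEquiv.ofBijective e₀ he).toCommRingCatIso
  have hc : Spec.map (CommRingCat.ofHom e₀) ≫ Spec.map (CommRingCat.ofHom (IsLocalRing.residue R)) =
      Spec.map (CommRingCat.ofHom (IsLocalRing.residue (R ⧸ a))) ≫
        Spec.map (CommRingCat.ofHom (Ideal.Quotient.mk a)) := by
    rw [← Spec.map_comp, ← Spec.map_comp]; rfl
  let e : closedOver (R ⧸ a) (quotOver a str).hom ⟶ closedOver R str :=
    Over.homMk (Spec.map (CommRingCat.ofHom e₀)) (by
      show _ ≫ _ ≫ str = _ ≫ _ ≫ str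
      rw [← Category.assoc, hc, Category.assoc])
  refine ⟨e, ?_, Over.OverMorphism.ext hc⟩
  have : IsIso ((Over.forget S).map e) := inferInstanceAs (IsIso (Spec.map E.hom))
  exact isIso_of_reflects_iso e (Over.forget S)

variable {R : Type u} [CommRing R] [HenselianLocalRing R] {str : Spec (CommRingCat.of R) ⟶ S}

/-- A lift of the closed point to an étale chart extends to the henselian local scheme. -/
theorem exists_lift_of_residue {Z : Over S} {p : (yon S).obj Z ⟶ X} (hp : RepWith @Etale p)
    (z : (yon S).obj (Over.mk str) ⟶ X) (g₀ : closedOver R str ⟶ Z)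
    (h : (yon S).map g₀ ≫ p = (yon S).map (closedIncl R str) ≫ z) :
    ∃ g : Over.mk str ⟶ Z, (yon S).map g ≫ p = z ∧ closedIncl R str ≫ g = g₀ := by
  let ZR := hp.rep.pullback z
  let q : ZR ⟶ Over.mk str := hp.rep.snd z
  let r : ZR ⟶ Z := hp.rep.fst' z
  have sq : IsPullback ((yon S).map r) ((yon S).map q) p z := hp.rep.isPullback' z
  obtain ⟨u, hu₁, hu₂⟩ := exists_lift_yon sq g₀ (closedIncl R str) h
  let q' : ZR.left ⟶ Spec (CommRingCat.of R) := q.left
  have : Etale q' := hp.property_snd z
  obtain ⟨τ, ⟨hτ₁, hτ₂⟩, -⟩ := EtFound.existsUnique_section R q' u.left (congrArg (fun e => e.left) hu₂)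
  let τ' : Over.mk str ⟶ ZR := Over.homMk τ (by
    show τ ≫ ZR.hom = str
    rw [← Over.w q, ← Category.assoc, show τ ≫ q.left = 𝟙 _ from hτ₁]
    exact Category.id_comp _)
  have hτq : τ' ≫ q = 𝟙 _ := Over.OverMorphism.ext hτ₁
  refine ⟨τ' ≫ r, ?_, ?_⟩
  · rw [Functor.map_comp, Category.assoc, sq.w, ← Functor.map_comp_assoc, hτq]
    simp
  · rw [← Category.assoc, show closedIncl R str ≫ τ' = u from Over.OverMorphism.ext hτ₂, hu₁]

/-- Étale affine charts exist through every henselian point. -/
theorem exists_affine_chart_henselian (hX : IsAlgSpace X) (z : (yon S).obj (Over.mk str) ⟶ X) :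
    ∃ (Z : Over S) (p : (yon S).obj Z ⟶ X) (g : Over.mk str ⟶ Z),
      IsAffine Z.left ∧ RepWith @Etale p ∧ (yon S).map g ≫ p = z := by
  obtain ⟨Z, p, g₀, hZ, hp, hg₀⟩ := exists_affine_chart_through hX
    (k := IsLocalRing.ResidueField R) (σ := (closedOver R str).hom) ((yon S).map (closedIncl R str) ≫ z)
  obtain ⟨g, hg, -⟩ := exists_lift_of_residue hp z g₀ hg₀
  exact ⟨Z, p, g, hZ, hp, hg⟩

/-- A chart through the closed point receives every point over a quotient with the same closed point. -/
theorem exists_lift_quot {Z : Over S} {p : (yon S).obj Z ⟶ X} (hp : RepWith @Etale p) (a : Ideal R) (ha : a ≠ ⊤)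
    (x : (yon S).obj (quotOver a str) ⟶ X) :
    ∃ x₀ : (yon S).obj (closedOver R str) ⟶ X, ∀ g₀ : closedOver R str ⟶ Z, (yon S).map g₀ ≫ p = x₀ →
      ∃ g : quotOver a str ⟶ Z, (yon S).map g ≫ p = x := by
  have := henselianLocalRing_quotient a ha
  obtain ⟨e, he, -⟩ := exists_quot_residue a ha str
  refine ⟨(yon S).map (inv e ≫ closedIncl (R ⧸ a) (quotOver a str).hom) ≫ x, fun g₀ hg₀ => ?_⟩
  obtain ⟨g, hg, -⟩ := exists_lift_of_residue (str := (quotOver a str).hom) hp x (e ≫ g₀) (by
    rw [Functor.map_comp, Category.assoc, hg₀, ← Functor.map_comp_assoc, IsIso.hom_inv_id_assoc])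
  exact ⟨g, hg⟩

/-- Points over a field are determined over the algebraic closure. -/
theorem hom_ext_acι {k : Type u} [Field k] {σ : Spec (CommRingCat.of k) ⟶ S} (hX : IsAlgSpace X)
    (x x' : (yon S).obj (fldPt σ) ⟶ X) (h : (yon S).map (acι σ) ≫ x = (yon S).map (acι σ) ≫ x') : x = x' := by
  let d := prod.lift x x'
  have hsq := IsPullback.of_hasPullback d (diag X)
  have hr : Representable (pullback.fst d (diag X)) :=
    MorphismProperty.of_isPullback (P := Representable) hsq.flip hX.diag
  have hE : IsAlgSpace (pullback d (diag X)) :=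
    isAlgSpace_of_representable _ hr (IsAlgSpace.yon_obj (fldPt σ))
  let l : (yon S).obj (acPt σ) ⟶ pullback d (diag X) := pullback.lift ((yon S).map (acι σ))
    ((yon S).map (acι σ) ≫ x) (by
      apply prod.hom_ext
      · simp only [Category.assoc, d, prod.lift_fst, Category.comp_id]
      · simp only [Category.assoc, d, prod.lift_snd, Category.comp_id]; exact h.symm)
  have := isIso_of_mono_field hE (pullback.fst d (diag X))
    (Points.map l (Points.ofScheme (acPt σ) (IsLocalRing.closedPoint (AlgebraicClosure k))))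
  have e := congrArg (inv (pullback.fst d (diag X)) ≫ ·) (pullback.condition (f := d) (g := diag X))
  simp only [IsIso.inv_hom_id_assoc] at e
  have e₁ := congrArg (· ≫ prod.fst) e
  have e₂ := congrArg (· ≫ prod.snd) e
  simp only [d, Category.assoc, prod.lift_fst, prod.lift_snd, Category.comp_id] at e₁ e₂
  exact e₁.trans e₂.symm

/-- Field points of an algebraic space form a small type. -/
theorem small_fieldPoints {k : Type u} [Field k] {σ : Spec (CommRingCat.of k) ⟶ S} (hX : IsAlgSpace X) :
    Small.{u} ((yon S).obj (fldPt σ) ⟶ X) := by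
  obtain ⟨U, p, hp, hps⟩ := hX.atlas
  have key : ∀ x : (yon S).obj (fldPt σ) ⟶ X, ∃ y : acPt σ ⟶ U,
      (yon S).map y ≫ p = (yon S).map (acι σ) ≫ x := by
    intro x
    let A := hp.rep.pullback x
    let q : A ⟶ fldPt σ := hp.rep.snd x
    let r : A ⟶ U := hp.rep.fst' x
    have sq : IsPullback ((yon S).map r) ((yon S).map q) p x := hp.rep.isPullback' x
    have : Etale q.left := hp.property_snd x
    have : Surjective q.left := hps.property _ _ _ (hp.rep.isPullback x)
    obtain ⟨w, -⟩ := q.left.surjective (IsLocalRing.closedPoint k)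
    have := locallyOfFiniteType_resι_comp q w
    obtain ⟨-, ⟨φ, hφ⟩⟩ := finite_nonempty_emb (τ := A.left.fromSpecResidueField w ≫ A.hom) (resι w ≫ q)
    refine ⟨(φ ≫ resι w) ≫ r, ?_⟩
    rw [Functor.map_comp, Category.assoc, sq.w, ← Functor.map_comp_assoc, Category.assoc, hφ]
  choose f hf using key
  have hinj : Function.Injective f := fun x x' e => hom_ext_acι hX x x' (by rw [← hf, ← hf, e])
  exact small_of_injective hinj

end Groth.Agent.AlgSpQ4
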