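import Groth.Agent.AlgSpDec.DecentDense
import Groth.Agent.AlgSpDec.FiniteQuot
import Groth.Agent.AlgSpLib.LocP
import Mathlib.AlgebraicGeometry.Morphisms.Etale

/-!
# Schemes of tuples of distinct points of an étale chart over its space
-/

set_option backward.isDefEq.respectTransparency false
set_option backward.isDefEq.respectTransparency.types false

universe u

open CategoryTheory Limits AlgebraicGeometry AlgSp Groth.Agent.AlgSpLib Groth.Agent.AlgSpDec

namespace Groth.Agent.AlgSpQ4

variable {S : Scheme.{u}} {X : Sp S} {U : Over S} {a : (yon S).obj U ⟶ X}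

/-- The spectrum of the residue field of a point, over the base. -/
noncomputable abbrev resPt {T : Over S} (z : T.left) : Over S :=
  Over.mk (T.left.fromSpecResidueField z ≫ T.hom)

/-- The inclusion of the spectrum of the residue field of a point. -/
noncomputable abbrev resι {T : Over S} (z : T.left) : resPt z ⟶ T :=
  Over.homMk (T.left.fromSpecResidueField z) rfl

/-- All components lie over one map to the space. -/
def Compat {T : Over S} {n : ℕ} (a : (yon S).obj U ⟶ X) (y : Fin (n + 1) → (T ⟶ U)) : Prop :=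
  ∀ i, (yon S).map (y i) ≫ a = (yon S).map (y 0) ≫ a

/-- The components differ at every residue field. -/
def PtDistinct {T : Over S} {n : ℕ} (y : Fin (n + 1) → (T ⟶ U)) : Prop :=
  ∀ (z : T.left) (i j : Fin (n + 1)), i ≠ j → resι z ≫ y i ≠ resι z ≫ y j

theorem exists_diag (ha : RepWith @Etale a) [IsAffine U.left] :
    ∃ δ : U ⟶ ha.rep.pullback a, δ ≫ ha.rep.fst' a = 𝟙 U ∧ δ ≫ ha.rep.snd a = 𝟙 U ∧
      IsOpenImmersion δ.left ∧ IsClosedImmersion δ.left := by
  obtain ⟨δ, h1, h2⟩ := exists_rel_lift (ha.rep.isPullback' a) (𝟙 U) (𝟙 U) rfl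
  have hsec : δ.left ≫ (ha.rep.snd a).left = 𝟙 U.left := by
    rw [← Over.comp_left, h2]; rfl
  have : Etale (ha.rep.snd a).left := ha.property_snd a
  have : IsSeparated (ha.rep.snd a).left := isSeparated_snd_of_isAffine ha
  have : IsClosedImmersion (δ.left ≫ (ha.rep.snd a).left) := by rw [hsec]; infer_instance
  have hcl : IsClosedImmersion δ.left := IsClosedImmersion.of_comp δ.left (ha.rep.snd a).left
  have : Etale (δ.left ≫ (ha.rep.snd a).left) := by rw [hsec]; infer_instance
  have : Etale δ.left := Etale.of_comp δ.left (ha.rep.snd a).left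
  exact ⟨δ, h1, h2, IsOpenImmersion.of_flat_of_mono _, hcl⟩

/-- Schemes of compatible tuples. -/
theorem exists_tuples (ha : RepWith @Etale a) [IsAffine U.left] (n : ℕ) :
    ∃ (P : Over S) (x : Fin (n + 1) → (P ⟶ U)), Compat a x ∧ Etale (x 0).left ∧ IsSeparated (x 0).left ∧
      (∀ {T : Over S} (l l' : T ⟶ P), (∀ i, l ≫ x i = l' ≫ x i) → l = l') ∧
      ∀ {T : Over S} (y : Fin (n + 1) → (T ⟶ U)), Compat a y → ∃ l : T ⟶ P, ∀ i, l ≫ x i = y i := by
  induction n with
  | zero =>
    refine ⟨U, fun _ => 𝟙 U, fun _ => rfl, inferInstanceAs (Etale (𝟙 U.left)),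
      inferInstanceAs (IsSeparated (𝟙 U.left)), fun l l' h => by simpa using h 0,
      fun y _ => ⟨y 0, fun i => ?_⟩⟩
    rw [Fin.fin_one_eq_zero i, Category.comp_id]
  | succ n ih =>
    obtain ⟨P, x, hx, hxe, hxs, hext, hlift⟩ := ih
    let R := ha.rep.pullback a
    let p₁ : R ⟶ U := ha.rep.fst' a
    let p₂ : R ⟶ U := ha.rep.snd a
    have sqR : IsPullback ((yon S).map p₁) ((yon S).map p₂) a a := ha.rep.isPullback' a
    let P' := Limits.pullback (x 0) p₂
    let f : P' ⟶ P := pullback.fst (x 0) p₂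
    let x' : Fin (n + 2) → (P' ⟶ U) := Fin.snoc (fun i => f ≫ x i) (pullback.snd (x 0) p₂ ≫ p₁)
    have hcast : ∀ i : Fin (n + 1), x' i.castSucc = f ≫ x i := fun i => by simp [x']
    have hlast : x' (Fin.last (n + 1)) = pullback.snd (x 0) p₂ ≫ p₁ := by simp [x']
    have h0 : x' 0 = f ≫ x 0 := hcast 0
    have sqf := ((IsPullback.of_hasPullback (x 0) p₂).map (Over.forget S)).flip
    have hfe : Etale f.left := MorphismProperty.of_isPullback (P := @Etale) sqf (ha.property_snd a)
    have hfs : IsSeparated f.left :=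
      MorphismProperty.of_isPullback (P := @IsSeparated) sqf (isSeparated_snd_of_isAffine ha)
    refine ⟨P', x', fun i => ?_, ?_, ?_, fun {T} l l' h => ?_, fun {T} y hy => ?_⟩
    · induction i using Fin.lastCases with
      | last =>
        rw [hlast, h0, Functor.map_comp, Category.assoc, sqR.w, ← Functor.map_comp_assoc, ← pullback.condition]
      | cast i => rw [hcast, h0, Functor.map_comp, Functor.map_comp, Category.assoc, Category.assoc, hx i]
    · rw [h0]; exact inferInstanceAs (Etale (f.left ≫ (x 0).left))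
    · rw [h0]; exact inferInstanceAs (IsSeparated (f.left ≫ (x 0).left))
    · have h1 : l ≫ f = l' ≫ f := hext _ _ fun i => by
        rw [Category.assoc, Category.assoc, ← hcast]; exact h _
      refine pullback.hom_ext h1 ((yon S).map_injective (sqR.hom_ext ?_ ?_))
      · rw [← Functor.map_comp, ← Functor.map_comp, Category.assoc, Category.assoc, ← hlast, h]
      · rw [← Functor.map_comp, ← Functor.map_comp, Category.assoc, Category.assoc, ← pullback.condition,
          reassoc_of% h1]
    · obtain ⟨l, hl⟩ := hlift (fun i => y i.castSucc) fun i => hy i.castSucc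
      obtain ⟨r, hr₁, hr₂⟩ := exists_rel_lift sqR (y (Fin.last (n + 1))) (y 0) (hy _)
      refine ⟨pullback.lift l r (by rw [hr₂, hl]; rfl), fun i => ?_⟩
      induction i using Fin.lastCases with
      | last => rw [hlast, pullback.lift_snd_assoc, hr₁]
      | cast i => rw [hcast, pullback.lift_fst_assoc, hl]


set_option maxHeartbeats 800000 in
theorem exists_distinct_tuples (ha : RepWith @Etale a) [IsAffine U.left] (n : ℕ) :
    ∃ (P : Over S) (x : Fin (n + 1) → (P ⟶ U)), Compat a x ∧ PtDistinct x ∧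
      Etale (x 0).left ∧ IsSeparated (x 0).left ∧
      (∀ {T : Over S} (l l' : T ⟶ P), (∀ i, l ≫ x i = l' ≫ x i) → l = l') ∧
      ∀ {T : Over S} (y : Fin (n + 1) → (T ⟶ U)), Compat a y → PtDistinct y →
        ∃ l : T ⟶ P, ∀ i, l ≫ x i = y i := by
  obtain ⟨P, x, hx, hxe, hxs, hext, hlift⟩ := exists_tuples ha n
  obtain ⟨δ, hδ₁, hδ₂, hδo, hδc⟩ := exists_diag ha
  have sqR : IsPullback ((yon S).map (ha.rep.fst' a)) ((yon S).map (ha.rep.snd a)) a a := ha.rep.isPullback' a
  choose r hr₁ hr₂ using fun i j => exists_rel_lift sqR (x i) (x j) ((hx i).trans (hx j).symm)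
  let C : Set P.left := ⋃ p : {p : Fin (n + 1) × Fin (n + 1) // p.1 ≠ p.2},
    (r p.1.1 p.1.2).left ⁻¹' Set.range δ.left
  have hrange : IsClosed (Set.range δ.left) := δ.left.isClosedEmbedding.isClosed_range
  have hclC : IsClosed C := isClosed_iUnion_of_finite
    (s := fun p : {p : Fin (n + 1) × Fin (n + 1) // p.1 ≠ p.2} => (r p.1.1 p.1.2).left ⁻¹' Set.range δ.left)
    (fun p => IsClosed.preimage ((r p.1.1 p.1.2).left.continuous) hrange)
  let W : P.left.Opens := ⟨Cᶜ, hclC.isOpen_compl⟩
  -- membership in a diagonal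
  have key : ∀ {T : Over S} (l : T ⟶ P) (z : T.left) (i j : Fin (n + 1)),
      (r i j).left (l.left z) ∈ Set.range δ.left ↔ resι z ≫ l ≫ x i = resι z ≫ l ≫ x j := by
    intro T l z i j
    constructor
    · intro h
      have hsub : Set.range (resι z ≫ l ≫ r i j).left ⊆ Set.range δ.left := by
        rintro _ ⟨p, rfl⟩
        rwa [Over.comp_left, Scheme.Hom.comp_apply, Over.comp_left, Scheme.Hom.comp_apply,
          show (resι z).left p = z from Scheme.fromSpecResidueField_apply _ p]
      let e : resPt z ⟶ U := Over.homMk (IsOpenImmersion.lift δ.left _ hsub) (by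
        rw [← Over.w δ, IsOpenImmersion.lift_fac_assoc]; exact Over.w (resι z ≫ l ≫ r i j))
      have he : e ≫ δ = resι z ≫ l ≫ r i j := Over.OverMorphism.ext (IsOpenImmersion.lift_fac _ _ _)
      rw [← hr₁ i j, ← hr₂ i j, ← Category.assoc l, ← Category.assoc (resι z), ← he,
        Category.assoc, hδ₁, ← Category.assoc l, ← Category.assoc (resι z), ← he, Category.assoc, hδ₂]
    · intro h
      have e : (resι z ≫ l ≫ x i) ≫ δ = resι z ≫ l ≫ r i j := (yon S).map_injective (sqR.hom_ext
        (by rw [← Functor.map_comp, ← Functor.map_comp, Category.assoc, hδ₁, Category.comp_id,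
            Category.assoc, Category.assoc, hr₁])
        (by rw [← Functor.map_comp, ← Functor.map_comp, Category.assoc, hδ₂, Category.comp_id,
            Category.assoc, Category.assoc, hr₂, h]))
      refine ⟨(resι z ≫ l ≫ x i).left (IsLocalRing.closedPoint (T.left.residueField z)), ?_⟩
      rw [← Scheme.Hom.comp_apply, ← Over.comp_left, e, Over.comp_left, Scheme.Hom.comp_apply,
        Over.comp_left, Scheme.Hom.comp_apply]
      congr 2
      exact Scheme.fromSpecResidueField_apply _ _
  have hW : ∀ {T : Over S} (l : T ⟶ P), (∀ z, l.left z ∈ W) ↔ PtDistinct (fun i => l ≫ x i) := by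
    intro T l
    simp only [PtDistinct]
    refine forall_congr' fun z => ?_
    change l.left z ∈ (⋃ p : {p : Fin (n + 1) × Fin (n + 1) // p.1 ≠ p.2},
      (r p.1.1 p.1.2).left ⁻¹' Set.range δ.left)ᶜ ↔ _
    rw [Set.mem_compl_iff, Set.mem_iUnion, not_exists]
    exact ⟨fun h i j hij e => h ⟨(i, j), hij⟩ ((key l z i j).2 e),
      fun h p hp => h _ _ p.2 ((key l z _ _).1 hp)⟩
  let P₀ : Over S := Over.mk (W.ι ≫ P.hom)
  let ι : P₀ ⟶ P := Over.homMk W.ι rfl
  have hιe : ι.left = W.ι := rfl
  have hd₀ : PtDistinct (fun i => ι ≫ x i) := (hW ι).1 fun z => z.2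
  have he₀ : Etale (W.ι ≫ (x 0).left) := inferInstance
  have hs₀ : IsSeparated (W.ι ≫ (x 0).left) := inferInstance
  have : Mono ι := (Over.forget S).mono_of_mono_map (inferInstanceAs (Mono W.ι))
  refine ⟨P₀, fun i => ι ≫ x i, fun i => ?_, hd₀, he₀, hs₀, fun l l' h => ?_, fun {T} y hy hd => ?_⟩
  · rw [Functor.map_comp, Functor.map_comp, Category.assoc, Category.assoc, hx i]
  · rw [← cancel_mono ι]
    exact hext _ _ fun i => by rw [Category.assoc, Category.assoc]; exact h i
  · obtain ⟨l, hl⟩ := hlift y hy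
    have hmem : ∀ z, l.left z ∈ W := (hW l).2 (by rw [funext hl]; exact hd)
    let l₀ : T ⟶ P₀ := Over.homMk (IsOpenImmersion.lift W.ι l.left (by
        rintro _ ⟨z, rfl⟩; exact ⟨⟨_, hmem z⟩, rfl⟩)) (by
      change _ ≫ W.ι ≫ P.hom = T.hom
      rw [IsOpenImmersion.lift_fac_assoc, Over.w l])
    refine ⟨l₀, fun i => ?_⟩
    rw [← Category.assoc, show l₀ ≫ ι = l from Over.OverMorphism.ext (IsOpenImmersion.lift_fac _ _ _), hl]

end Groth.Agent.AlgSpQ4
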