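import Groth.Agent.AlgSpQ4.FieldPts
import Groth.Agent.AlgSpQ4.Tuples
import Groth.Agent.AlgSpOne.ElemNbhd
import Groth.Agent.AlgSpDec.PointsSpectral
import Groth.Agent.AlgSpDec.LimOpen
import Groth.Agent.AlgSpLib.FpqcDescent
import Groth.Agent.ProConsLib.Basic
import Groth.Agent.ProConsLib.Image
import Groth.Agent.S10192

/-!
# Enlarging compact open sets by elementary distinguished affine charts
-/

set_option backward.isDefEq.respectTransparency false
set_option backward.isDefEq.respectTransparency.types false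

universe u

open CategoryTheory Limits AlgebraicGeometry AlgSp Groth.Agent.AlgSpLib Groth.Agent.AlgSpPts Groth.Agent.AlgSpDec

namespace Groth.Agent.AlgSpQ4

variable {S : Scheme.{u}} {X : Sp S}

/-- The chart takes no two values over points outside `D`. -/
def NoDbl {V : Over S} (b : (yon S).obj V ⟶ X) (D : Set (Points X)) : Prop :=
  ∀ (T : Over S) (y y' : T ⟶ V), (yon S).map y ≫ b = (yon S).map y' ≫ b →
    (∀ t, Points.ofPt ((yon S).map y ≫ b) t ∉ D) → y = y'

theorem NoDbl.restrict {V A : Over S} {b : (yon S).obj V ⟶ X} {D Q : Set (Points X)} (h : NoDbl b D)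
    (ι : A ⟶ V) [Mono ι] (hD : ∀ a, Points.ofPt ((yon S).map ι ≫ b) a ∈ D → Points.ofPt ((yon S).map ι ≫ b) a ∈ Q) :
    NoDbl ((yon S).map ι ≫ b) Q := by
  intro T y y' e hy
  refine (cancel_mono ι).1 (h T _ _ (by simpa only [Functor.map_comp, Category.assoc] using e) fun t ht => hy t ?_)
  rw [ofPt_comp] at ht ⊢
  rw [Over.comp_left, Scheme.Hom.comp_apply, ← ofPt_comp] at ht
  exact hD _ ht

/-- An elementary etale neighbourhood has no double values off a compact open set missing the point. -/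
theorem exists_elem_chart [QuasiSeparatedSpace ↥S] (hX : IsAlgSpace X) (hqs : IsQuasiSeparatedSp X)
    (x : Points X) :
    ∃ (V : Over S) (b : (yon S).obj V ⟶ X) (D : Set (Points X)), IsAffine V.left ∧ RepWith @Etale b ∧
      x ∈ Set.range (Points.ofPt b) ∧ IsOpen D ∧ IsCompact D ∧ x ∉ D ∧ NoDbl b D := by
  obtain ⟨V, b, u, hV, hb, rfl, hmono, hsingle⟩ :=
    AlgSpOne.ElemNbhd.exists_elem_nbhd hX (isDecent_of_isQuasiSeparatedSp hX hqs) x
  obtain ⟨δ, hδ₁, hδ₂, hδo, hδc⟩ := exists_diag hb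
  let R := hb.rep.pullback b
  let t : R ⟶ V := hb.rep.fst' b
  let s : R ⟶ V := hb.rep.snd b
  have sqR : IsPullback ((yon S).map t) ((yon S).map s) b b := hb.rep.isPullback' b
  have : Etale t.left := hb.property _ _ _ sqR.flip
  have hVq : IsQuasiCompactSp ((yon S).obj V) := (isQuasiCompactSp_yon_iff V).2 inferInstance
  have hR : IsQuasiCompactSp ((yon S).obj R) :=
    isQuasiCompactMor_of_qc_qs (IsAlgSpace.yon_obj V) hX hVq hqs b (IsAlgSpace.yon_obj V) hVq b _ _ sqR
  have : CompactSpace ↥R.left := (isQuasiCompactSp_yon_iff R).1 hR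
  let E : Set ↥R.left := (Set.range δ.left)ᶜ
  have hEo : IsOpen E := δ.left.isClosedEmbedding.isClosed_range.isOpen_compl
  have hEc : IsCompact E := δ.left.isOpenEmbedding.isOpen_range.isClosed_compl.isCompact
  refine ⟨V, b, (fun r => Points.ofPt b (t.left r)) '' E, hV, hb, ⟨u, rfl⟩, ?_, hEc.image ((Points.continuous_ofPt b).comp t.left.continuous),
    ?_, ?_⟩
  · rw [show (fun r => Points.ofPt b (t.left r)) = Points.ofPt b ∘ t.left from rfl, Set.image_comp]
    exact isOpenMap_ofPt hb _ (t.left.isOpenMap _ hEo)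
  · rintro ⟨r, hr, hrx⟩
    have ht : t.left r = u := (Set.ext_iff.1 hsingle _).1 hrx
    have hsr : Points.ofPt b (s.left r) = Points.ofPt b u := by
      rw [← hrx]
      show Points.ofPt b (s.left r) = Points.ofPt b (t.left r)
      rw [← ofPt_comp, ← ofPt_comp, sqR.w]
    have hs : s.left r = u := (Set.ext_iff.1 hsingle _).1 hsr
    obtain ⟨α, hα⟩ := exists_factor_resι (resι r ≫ t) u (by
      rw [Over.comp_left, Scheme.Hom.comp_apply, resι_apply]; exact ht)
    obtain ⟨β, hβ⟩ := exists_factor_resι (resι r ≫ s) u (by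
      rw [Over.comp_left, Scheme.Hom.comp_apply, resι_apply]; exact hs)
    have : Mono ((yon S).map (resι u) ≫ b) := by
      rw [← FieldPt.toHom_ofPt]; exact hmono
    have hαβ : α = β := (yon S).map_injective ((cancel_mono ((yon S).map (resι u) ≫ b)).1 (by
      rw [← Functor.map_comp_assoc, ← Functor.map_comp_assoc, hα, hβ, Functor.map_comp, Functor.map_comp,
        Category.assoc, Category.assoc, sqR.w]))
    have hfac : (α ≫ resι u) ≫ δ = resι r := (yon S).map_injective (sqR.hom_ext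
      (by rw [← Functor.map_comp, ← Functor.map_comp, Category.assoc, hδ₁, Category.comp_id, hα])
      (by rw [← Functor.map_comp, ← Functor.map_comp, Category.assoc, hδ₂, Category.comp_id, hαβ, hβ]))
    refine hr ⟨(α ≫ resι u).left (IsLocalRing.closedPoint (R.left.residueField r)), ?_⟩
    rw [← Scheme.Hom.comp_apply, ← Over.comp_left, hfac, resι_apply]
  · intro T y y' e hy
    obtain ⟨r, hr₁, hr₂⟩ := exists_rel_lift sqR y y' e
    have hsub : Set.range r.left ⊆ Set.range δ.left := by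
      rintro _ ⟨w, rfl⟩
      by_contra hn
      refine hy w ⟨r.left w, hn, ?_⟩
      rw [ofPt_comp, ← hr₁, Over.comp_left, Scheme.Hom.comp_apply]
    have e₁ : r.left = IsOpenImmersion.lift δ.left r.left hsub ≫ δ.left := (IsOpenImmersion.lift_fac _ _ _).symm
    have d₁ : δ.left ≫ t.left = 𝟙 V.left := congrArg (fun e => e.left) hδ₁
    have d₂ : δ.left ≫ s.left = 𝟙 V.left := congrArg (fun e => e.left) hδ₂
    apply Over.OverMorphism.ext
    rw [← hr₁, ← hr₂, Over.comp_left, Over.comp_left, e₁, Category.assoc, Category.assoc, d₁, d₂]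

/-- An open immersion takes no two values anywhere. -/
theorem noDbl_of_mono {V : Over S} (b : (yon S).obj V ⟶ X) [Mono b] (D : Set (Points X)) : NoDbl b D :=
  fun _ _ _ e _ => (yon S).map_injective ((cancel_mono b).1 e)

/-- A point maximal in a closed set is missed by the closure of a compact open set missing it. -/
theorem notMem_closure_inter {Y : Type*} [TopologicalSpace Y] [SpectralSpace Y] {T D : Set Y} (hT : IsClosed T)
    (hD : IsOpen D) (hDc : IsCompact D) {η : Y} (hη : ∀ z ∈ T, z ⤳ η → z = η) (hηD : η ∉ D) :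
    η ∉ closure (D ∩ T) := fun h => by
  obtain ⟨z, ⟨hzD, hzT⟩, hz⟩ := ProConsLib.ConsClosed.exists_specializes_of_mem_closure
    (ProConsLib.consClosed_inter (ProConsLib.consClosed_of_isConstructible (hDc.isConstructible hD))
      (ProConsLib.consClosed_of_isClosed hT)) h
  exact hηD (hη z hzT hz ▸ hzD)

/-- A nonempty closed set of a sober T0 space has a point maximal for specialisation. -/
theorem exists_maximal_point {Y : Type*} [TopologicalSpace Y] [QuasiSober Y] [T0Space Y] {T : Set Y}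
    (hT : IsClosed T) (hne : T.Nonempty) : ∃ η ∈ T, ∀ z ∈ T, z ⤳ η → z = η := by
  have : QuasiSober T := hT.isClosedEmbedding_subtypeVal.quasiSober
  obtain ⟨x, hx⟩ := hne
  obtain ⟨η, hη⟩ := QuasiSober.sober (isIrreducible_irreducibleComponent (x := (⟨x, hx⟩ : T)))
    isClosed_irreducibleComponent
  refine ⟨η.1, η.2, fun z hz hzη => ?_⟩
  have hzη' : (⟨z, hz⟩ : T) ⤳ η := Topology.IsInducing.subtypeVal.specializes_iff.1 hzη
  have hsub : irreducibleComponent (⟨x, hx⟩ : T) ⊆ closure {(⟨z, hz⟩ : T)} :=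
    hη.def ▸ hzη'.closure_subset
  have heq := eq_irreducibleComponent isIrreducible_singleton.closure.2 hsub
  exact congrArg Subtype.val (IsGenericPoint.eq (x := (⟨z, hz⟩ : T)) (y := η) heq hη)

/-- The induction principle on compact open sets of points, enlarging by charts without double values
outside the smaller set. -/
theorem points_induction [QuasiSeparatedSpace ↥S] (hX : IsAlgSpace X) (hqc : IsQuasiCompactSp X)
    (hqs : IsQuasiSeparatedSp X) (P : Set (Points X) → Prop) (W₀ : Set (Points X)) (hW₀ : IsOpen W₀)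
    (hW₀c : IsCompact W₀) (h₀ : P W₀)
    (step : ∀ (Q₁ Q₂ : Set (Points X)) (V : Over S) (b : (yon S).obj V ⟶ X), IsOpen Q₁ → IsCompact Q₁ →
      W₀ ⊆ Q₁ → IsAffine V.left → RepWith @Etale b → Q₂ = Q₁ ∪ Set.range (Points.ofPt b) → NoDbl b Q₁ →
      P Q₁ → P Q₂) :
    P Set.univ := by
  classical
  have := spectralSpace_points hX hqc hqs
  let good : Set (Set (Points X)) := {U | IsOpen U ∧ W₀ ⊆ U ∧ ∀ Q, IsOpen Q → IsCompact Q → W₀ ⊆ Q → Q ⊆ U → P Q}
  have hW₀g : W₀ ∈ good := ⟨hW₀, Set.Subset.rfl, fun Q _ _ h1 h2 => (h1.antisymm h2) ▸ h₀⟩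
  obtain ⟨U, -, hU⟩ := zorn_subset_nonempty good (fun c hc hchain hne => by
    refine ⟨⋃₀ c, ⟨isOpen_sUnion fun s hs => (hc hs).1, ?_, fun Q hQ hQc h1 h2 => ?_⟩,
      fun s hs => Set.subset_sUnion_of_mem hs⟩
    · obtain ⟨s, hs⟩ := hne
      exact (hc hs).2.1.trans (Set.subset_sUnion_of_mem hs)
    · have : Nonempty c := hne.to_subtype
      obtain ⟨s, hs⟩ := hQc.elim_directed_cover (fun s : c => s.1) (fun s => (hc s.2).1)
        (by rwa [← Set.sUnion_eq_iUnion]) hchain.directed
      exact (hc s.2).2.2 Q hQ hQc h1 hs) W₀ hW₀g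
  obtain ⟨⟨hUo, hWU, hUg⟩, hmax⟩ := hU
  suffices U = Set.univ from hUg _ isOpen_univ isCompact_univ (Set.subset_univ _) this.ge
  by_contra hne
  obtain ⟨η, hηT, hηmax⟩ := exists_maximal_point hUo.isClosed_compl (Set.nonempty_compl.2 hne)
  obtain ⟨V, b, D, hV, hb, ⟨v, hv⟩, hDo, hDc, hηD, hnd⟩ := exists_elem_chart hX hqs η
  have hηcl : η ∉ closure (D ∩ Uᶜ) := notMem_closure_inter hUo.isClosed_compl hDo hDc hηmax hηD
  let G : Set (Points X) := (closure (D ∩ Uᶜ))ᶜ ∩ Set.range (Points.ofPt b)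
  have hGo : IsOpen G := isClosed_closure.isOpen_compl.inter (isOpenMap_ofPt hb).isOpen_range
  have hU' : U ∪ G ∈ good := by
    refine ⟨hUo.union hGo, hWU.trans Set.subset_union_left, fun Q hQ hQc hWQ hQU => ?_⟩
    have hDQ : D ∩ Q ⊆ U := fun z hz => (hQU hz.2).elim id fun hg => by
      by_contra hzU
      exact hg.1 (subset_closure ⟨hz.1, hzU⟩)
    have hDQc : IsCompact (D ∩ Q) := QuasiSeparatedSpace.inter_isCompact _ _ hDo hDc hQ hQc
    have hcov : ∀ q : Q, ∃ C : Set (Points X), q.1 ∈ C ∧ C ⊆ Q ∧ IsOpen C ∧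
        (IsCompact C ∧ C ⊆ U ∨ ∃ (A : Over S) (ι : A ⟶ V), IsAffine A.left ∧ IsOpenImmersion ι.left ∧
          C = Set.range (Points.ofPt ((yon S).map ι ≫ b))) := by
      rintro ⟨q, hq⟩
      by_cases hqU : q ∈ U
      · obtain ⟨C, ⟨hCo, hCc⟩, hqC, hCQ⟩ :=
          PrespectralSpace.isTopologicalBasis.exists_subset_of_mem_open (show q ∈ Q ∩ U from ⟨hq, hqU⟩) (hQ.inter hUo)
        exact Exists.intro C ⟨hqC, fun z hz => (hCQ hz).1, hCo, Or.inl ⟨hCc, fun z hz => (hCQ hz).2⟩⟩
      · obtain ⟨w, hw⟩ := ((hQU hq).resolve_left hqU).2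
        obtain ⟨O, hO, hwO, hOsub⟩ := exists_isAffineOpen_mem_and_subset (x := w)
          (U := ⟨Points.ofPt b ⁻¹' Q, hQ.preimage (Points.continuous_ofPt b)⟩) (show Points.ofPt b w ∈ Q from hw ▸ hq)
        let A : Over S := Over.mk (O.ι ≫ V.hom)
        let ι : A ⟶ V := Over.homMk O.ι rfl
        refine ⟨Set.range (Points.ofPt ((yon S).map ι ≫ b)), ⟨(⟨w, hwO⟩ : O.toScheme), (ofPt_comp _ _ _).trans hw⟩, ?_, ?_,
          .inr ⟨A, ι, hO, inferInstanceAs (IsOpenImmersion O.ι), rfl⟩⟩
        · rintro _ ⟨a, rfl⟩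
          rw [ofPt_comp]
          exact hOsub a.2
        · exact (isOpenMap_ofPt (repWith_comp ((repWith_yon_map_iff _ _).2
            (inferInstanceAs (Etale O.ι))) hb)).isOpen_range
    choose C hqC hCQ hCo hC using hcov
    obtain ⟨F, hF⟩ := hQc.elim_finite_subcover C hCo fun q hq => Set.mem_iUnion.2 ⟨⟨q, hq⟩, hqC _⟩
    suffices ∀ F' : Finset Q, P ((W₀ ∪ D ∩ Q) ∪ ⋃ q ∈ F', C q) by
      convert this F using 1
      refine Set.Subset.antisymm (hF.trans Set.subset_union_right) ?_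
      exact Set.union_subset (Set.union_subset hWQ Set.inter_subset_right) (Set.iUnion₂_subset fun q _ => hCQ q)
    let U₀ : Finset Q → Set (Points X) := fun F' => (W₀ ∪ D ∩ Q) ∪ ⋃ q ∈ F', C q
    have hCc : ∀ q, IsCompact (C q) := fun q => (hC q).elim (·.1) (by
      rintro ⟨A, ι, hA, -, e⟩; rw [e]; exact isCompact_range (Points.continuous_ofPt _))
    have hU₀o : ∀ F', IsOpen (U₀ F') := fun F' =>
      (hW₀.union (hDo.inter hQ)).union (isOpen_biUnion fun q _ => hCo q)
    have hU₀c : ∀ F', IsCompact (U₀ F') := fun F' => (hW₀c.union hDQc).union (F'.isCompact_biUnion fun q _ => hCc q)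
    -- those inside `U` first
    have hbase : ∀ F', (∀ q ∈ F', C q ⊆ U) → P (U₀ F') := fun F' h =>
      hUg _ (hU₀o F') (hU₀c F') (Set.subset_union_left.trans Set.subset_union_left)
        (Set.union_subset (Set.union_subset hWU hDQ) (Set.iUnion₂_subset h))
    suffices ∀ F₂ F₁ : Finset Q, (∀ q ∈ F₁, C q ⊆ U) → (∀ q ∈ F₂, ¬ C q ⊆ U) → P (U₀ (F₁ ∪ F₂)) by
      intro F'
      have h := this (F'.filter fun q => ¬ C q ⊆ U) (F'.filter fun q => C q ⊆ U)
        (fun q hq => (Finset.mem_filter.1 hq).2) (fun q hq => (Finset.mem_filter.1 hq).2)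
      rwa [Finset.filter_union_filter_not_eq] at h
    intro F₂
    induction F₂ using Finset.induction with
    | empty => intro F₁ h _; rw [Finset.union_empty]; exact hbase F₁ h
    | insert q F₂ _ ih =>
      intro F₁ h1 h2
      have hP := ih F₁ h1 fun z hz => h2 z (Finset.mem_insert_of_mem hz)
      obtain ⟨hcU, hc⟩ | ⟨A, ι, hA, hι, hc⟩ := hC q
      · exact absurd hc (h2 q (Finset.mem_insert_self _ _))
      have : Mono ι := (Over.forget S).mono_of_mono_map (inferInstanceAs (Mono ι.left))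
      refine step (U₀ (F₁ ∪ F₂)) _ A ((yon S).map ι ≫ b) (hU₀o _) (hU₀c _)
        (Set.subset_union_left.trans Set.subset_union_left) hA
        (repWith_comp ((repWith_yon_map_iff _ _).2 (inferInstanceAs (Etale ι.left))) hb) ?_ ?_ hP
      · simp only [U₀, Finset.union_insert, Finset.set_biUnion_insert, ← hc]
        rw [Set.union_comm (C q), Set.union_assoc, Set.union_assoc, Set.union_assoc]
      · exact hnd.restrict ι fun a ha => .inl (.inr ⟨ha, hCQ q (hc ▸ ⟨a, rfl⟩)⟩)
  exact hηT ((hmax hU' Set.subset_union_left) (.inr ⟨hηcl, v, hv⟩))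

end Groth.Agent.AlgSpQ4
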