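import Groth.Agent.AlgSpQ4.Quot
import Groth.Agent.AlgSpDec.AffineClassQuot
import Groth.Agent.AlgSpDec.MonoRep
import Groth.Agent.AlgSpDec.FinsetAffine
import Groth.Agent.AlgSpLib.EtLocalInst

/-!
# Affine étale charts through field-valued points
-/

set_option backward.isDefEq.respectTransparency false
set_option backward.isDefEq.respectTransparency.types false

universe u

open CategoryTheory Limits AlgebraicGeometry AlgSp Groth.Agent.AlgSpLib Groth.Agent.AlgSpPts Groth.Agent.AlgSpDec

namespace Groth.Agent.AlgSpQ4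

variable {S : Scheme.{u}} {X : Sp S}

/-- Étaleness of a map from a scheme descends along an étale surjection. -/
theorem repWith_etale_of_precomp (hX : IsAlgSpace X) {W T : Over S} (p : W ⟶ T) [Etale p.left]
    [Surjective p.left] (m : (yon S).obj T ⟶ X) (h : RepWith @Etale ((yon S).map p ≫ m)) :
    RepWith @Etale m := by
  refine ⟨hX.representable_from_yon m, fun V M g fst snd sq => ?_⟩
  obtain ⟨f, rfl⟩ := (yon S).map_surjective fst
  have sq' := ((IsPullback.of_hasPullback p f).map (yon S)).flip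
  have hcomp : IsPullback ((yon S).map (pullback.fst p f)) ((yon S).map (pullback.snd p f ≫ snd))
      ((yon S).map p ≫ m) g := by
    rw [Functor.map_comp]
    exact (((IsPullback.of_hasPullback p f).map (yon S)).paste_vert sq.flip.flip)
  have h' : Etale ((pullback.snd p f).left ≫ snd.left) := h.property _ _ _ hcomp
  have sqo := (IsPullback.of_hasPullback p f).map (Over.forget S)
  have he : Etale (pullback.snd p f).left := MorphismProperty.of_isPullback (P := @Etale) sqo ‹Etale p.left›
  have hs : Surjective (pullback.snd p f).left :=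
    MorphismProperty.of_isPullback (P := @Surjective) sqo ‹Surjective p.left›
  exact IsEtLocal.of_precomp (P := @Etale) _ snd.left he hs h'

/-- Lifts to a represented fibre product. -/
theorem exists_lift_yon {W T V P : Over S} {f : (yon S).obj W ⟶ X} {g : (yon S).obj V ⟶ X} {t : P ⟶ W} {s : P ⟶ V}
    (sq : IsPullback ((yon S).map t) ((yon S).map s) f g) (y : T ⟶ W) (y' : T ⟶ V)
    (h : (yon S).map y ≫ f = (yon S).map y' ≫ g) : ∃ r : T ⟶ P, r ≫ t = y ∧ r ≫ s = y' := by
  obtain ⟨r, hr⟩ := (yon S).map_surjective (sq.lift _ _ h)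
  exact ⟨r, (yon S).map_injective (by rw [Functor.map_comp, hr, sq.lift_fst]),
    (yon S).map_injective (by rw [Functor.map_comp, hr, sq.lift_snd])⟩

/-- Two maps to a chart with the same composite which agree at a point agree near it. -/
theorem exists_open_eq {U : Over S} {a : (yon S).obj U ⟶ X} (ha : RepWith @Etale a) [IsAffine U.left]
    {T : Over S} (y y' : T ⟶ U) (h : (yon S).map y ≫ a = (yon S).map y' ≫ a) (z : T.left)
    (hz : resι z ≫ y = resι z ≫ y') :
    ∃ O : T.left.Opens, z ∈ O ∧ O.ι ≫ y.left = O.ι ≫ y'.left := by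
  obtain ⟨δ, hδ₁, hδ₂, hδo, -⟩ := exists_diag ha
  have sqR : IsPullback ((yon S).map (ha.rep.fst' a)) ((yon S).map (ha.rep.snd a)) a a := ha.rep.isPullback' a
  obtain ⟨r, hr₁, hr₂⟩ := exists_rel_lift sqR y y' h
  refine ⟨r.left ⁻¹ᵁ δ.left.opensRange, ?_, ?_⟩
  · have e : (resι z ≫ y) ≫ δ = resι z ≫ r := (yon S).map_injective (sqR.hom_ext
      (by rw [← Functor.map_comp, ← Functor.map_comp, Category.assoc, hδ₁, Category.comp_id, Category.assoc, hr₁])
      (by rw [← Functor.map_comp, ← Functor.map_comp, Category.assoc, hδ₂, Category.comp_id, Category.assoc, hr₂, hz]))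
    refine ⟨(resι z ≫ y).left (IsLocalRing.closedPoint (T.left.residueField z)), ?_⟩
    rw [← Scheme.Hom.comp_apply, ← Over.comp_left, e, Over.comp_left, Scheme.Hom.comp_apply, resι_apply]
  · have hsub : Set.range ((r.left ⁻¹ᵁ δ.left.opensRange).ι ≫ r.left) ⊆ Set.range δ.left := by
      rintro _ ⟨v, rfl⟩
      exact v.2
    have hl := IsOpenImmersion.lift_fac δ.left _ hsub
    have e₁ : δ.left ≫ (ha.rep.fst' a).left = 𝟙 U.left := congrArg (fun e => e.left) hδ₁
    have e₂ : δ.left ≫ (ha.rep.snd a).left = 𝟙 U.left := congrArg (fun e => e.left) hδ₂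
    rw [show y.left = r.left ≫ (ha.rep.fst' a).left from (congrArg (fun e => e.left) hr₁).symm,
      show y'.left = r.left ≫ (ha.rep.snd a).left from (congrArg (fun e => e.left) hr₂).symm,
      ← Category.assoc, ← Category.assoc, ← hl, Category.assoc, Category.assoc, e₁, e₂]

variable {k : Type u} [Field k] {σ : Spec (CommRingCat.of k) ⟶ S}

/-- A field point lifts to a space of unordered tuples of an affine chart. -/
theorem exists_tupleSpace_lift (hX : IsAlgSpace X) (z : (yon S).obj (fldPt σ) ⟶ X) :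
    ∃ (U : Over S) (_ : IsAffine U.left) (a : (yon S).obj U ⟶ X) (_ : RepWith @Etale a) (n : ℕ)
      (D : TupleSpace a n) (g : (yon S).obj (fldPt σ) ⟶ D.Q), g ≫ D.ψ = z := by
  obtain ⟨U, a, u, hU, ha, hu⟩ := exists_affine_chart_at hX (Points.ofPt z (IsLocalRing.closedPoint k))
  let A := ha.rep.pullback z
  let q : A ⟶ fldPt σ := ha.rep.snd z
  let r : A ⟶ U := ha.rep.fst' z
  have sqA : IsPullback ((yon S).map r) ((yon S).map q) a z := ha.rep.isPullback' z
  obtain ⟨w, -, -⟩ := exists_ofPt_of_eq sqA hu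
  have : Etale q.left := ha.property_snd z
  have := locallyOfFiniteType_resι_comp q w
  obtain ⟨hfinE, hneE⟩ := finite_nonempty_emb (τ := A.left.fromSpecResidueField w ≫ A.hom) (resι w ≫ q)
  let Em := {φ : acPt σ ⟶ resPt w // φ ≫ resι w ≫ q = acι σ}
  obtain ⟨n, hn⟩ : ∃ n, Nat.card Em = n + 1 :=
    ⟨Nat.card Em - 1, by have := Nat.card_pos (α := Em); omega⟩
  let en : Fin (n + 1) ≃ Em := (Finite.equivFinOfCardEq hn).symm
  obtain ⟨D⟩ := exists_tupleSpace ha n
  have := D.etale₀
  -- the geometric tuple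
  have hjoint : ∀ {T : Over S} (y y' : T ⟶ A), y ≫ r = y' ≫ r → y ≫ q = y' ≫ q → y = y' := fun y y' h1 h2 =>
    (yon S).map_injective (sqA.hom_ext (by rw [← Functor.map_comp, ← Functor.map_comp, h1])
      (by rw [← Functor.map_comp, ← Functor.map_comp, h2]))
  let yΩ : Fin (n + 1) → (acPt σ ⟶ U) := fun i => (en i).1 ≫ resι w ≫ r
  have hover : ∀ {T : Over S} (f : T ⟶ A), (yon S).map (f ≫ r) ≫ a = (yon S).map (f ≫ q) ≫ z := fun f => by
    rw [Functor.map_comp, Functor.map_comp, Category.assoc, Category.assoc, sqA.w]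
  have hyΩ : ∀ i, (yon S).map (yΩ i) ≫ a = (yon S).map (acι σ) ≫ z := fun i => by
    have e := hover ((en i).1 ≫ resι w)
    rw [Category.assoc, Category.assoc] at e
    rw [← (en i).2]
    exact e
  obtain ⟨lΩ, hlΩ⟩ := D.lift yΩ (fun i => (hyΩ i).trans (hyΩ 0).symm) (fun v i j hij e => hij (by
    have : Epi (resι v) := epi_fldPt_hom (k := AlgebraicClosure k) (resι v)
    have e' := (cancel_epi (resι v)).1 e
    have := mono_resι w
    refine en.injective (Subtype.ext ((cancel_mono (resι w)).1 (hjoint _ _ ?_ ?_)))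
    · rw [Category.assoc, Category.assoc]; exact e'
    · rw [Category.assoc, Category.assoc, (en i).2, (en j).2]))
  -- the field of definition of the tuple
  let cP : (yon S).obj D.P ⟶ X := (yon S).map (D.x 0) ≫ a
  have hcP : RepWith @Etale cP := repWith_comp ((repWith_yon_map_iff _ _).2 D.etale₀) ha
  let AP := hcP.rep.pullback z
  let qP : AP ⟶ fldPt σ := hcP.rep.snd z
  let rP : AP ⟶ D.P := hcP.rep.fst' z
  have sqP : IsPullback ((yon S).map rP) ((yon S).map qP) cP z := hcP.rep.isPullback' z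
  have : Etale qP.left := hcP.property_snd z
  obtain ⟨lam, hlam₁, hlam₂⟩ := exists_lift_yon sqP lΩ (acι σ) (by
    show (yon S).map lΩ ≫ (yon S).map (D.x 0) ≫ a = _
    rw [← Functor.map_comp_assoc, hlΩ, hyΩ])
  let w' := lam.left (IsLocalRing.closedPoint (AlgebraicClosure k))
  obtain ⟨lamY, hlamY⟩ := exists_factor_resι lam w' rfl
  obtain ⟨y, hy⟩ : ∃ y : resPt w' ⟶ D.P, y = resι w' ≫ rP := ⟨_, rfl⟩
  obtain ⟨mY, hmY⟩ : ∃ mY : resPt w' ⟶ fldPt σ, mY = resι w' ≫ qP := ⟨_, rfl⟩
  have := locallyOfFiniteType_resι_comp qP w'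
  have hcomp : ∀ i, (yon S).map (y ≫ D.x i) ≫ a = (yon S).map mY ≫ z := fun i => by
    rw [Functor.map_comp, Category.assoc, D.compat i, hy, hmY, Functor.map_comp, Functor.map_comp,
      Category.assoc, Category.assoc, show (yon S).map (D.x 0) ≫ a = cP from rfl, sqP.w]
  -- the components lie over the chosen point
  have hcomp' : ∀ i, ∃ t : resPt w' ⟶ resPt w, t ≫ resι w ≫ r = y ≫ D.x i ∧ t ≫ resι w ≫ q = mY := fun i => by
    obtain ⟨t₀, ht₁, ht₂⟩ := exists_lift_yon sqA (y ≫ D.x i) mY (hcomp i)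
    have e : lamY ≫ t₀ = (en i).1 ≫ resι w := hjoint _ _
      (by rw [Category.assoc, ht₁, hy, Category.assoc, reassoc_of% hlamY,
            reassoc_of% hlam₁, hlΩ]
          exact (Category.assoc _ _ _).symm)
      (by rw [Category.assoc, ht₂, hmY, reassoc_of% hlamY, hlam₂,
            Category.assoc, (en i).2])
    have ht₀ : t₀.left (IsLocalRing.closedPoint (AP.left.residueField w')) = w := by
      have h1 := congrArg (fun e => e.left (IsLocalRing.closedPoint (AlgebraicClosure k))) e
      simp only [Over.comp_left, Scheme.Hom.comp_apply] at h1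
      rw [resι_apply] at h1
      rw [← h1]
      congr 1
      exact Subsingleton.elim (α := PrimeSpectrum (AP.left.residueField w')) _ _
    obtain ⟨t, ht⟩ := exists_factor_resι t₀ w ht₀
    exact ⟨t, by rw [reassoc_of% ht, ht₁], by rw [reassoc_of% ht, ht₂]⟩
  choose t ht₁ ht₂ using hcomp'
  -- descent to the base field
  let M := Limits.pullback mY mY
  let pr₁ : M ⟶ resPt w' := pullback.fst mY mY
  let pr₂ : M ⟶ resPt w' := pullback.snd mY mY
  have sqM := (IsPullback.of_hasPullback mY mY).map (Over.forget S)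
  have hmT : LocallyOfFiniteType mY.left := hmY ▸ locallyOfFiniteType_resι_comp qP w'
  have hpr₁ : LocallyOfFiniteType pr₁.left :=
    MorphismProperty.of_isPullback (P := @LocallyOfFiniteType) sqM.flip hmT
  have hmq : LocallyQuasiFinite mY.left :=
    hmY ▸ inferInstanceAs (LocallyQuasiFinite (AP.left.fromSpecResidueField w' ≫ qP.left))
  have hpr₁q : LocallyQuasiFinite pr₁.left :=
    MorphismProperty.of_isPullback (P := @LocallyQuasiFinite) sqM.flip hmq
  have : LocallyQuasiFinite (pr₁ ≫ mY).left := inferInstanceAs (LocallyQuasiFinite (pr₁.left ≫ mY.left))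
  have : LocallyOfFiniteType (pr₁ ≫ mY).left := inferInstanceAs (LocallyOfFiniteType (pr₁.left ≫ mY.left))
  have hlocal : ∀ m : M.left, ∃ O : M.left.Opens, m ∈ O ∧ ∃ g : Equiv.Perm (Fin (n + 1)),
      ∀ i, O.ι ≫ (pr₁ ≫ y ≫ D.x i).left = O.ι ≫ (pr₂ ≫ y ≫ D.x (g i)).left := by
    intro m
    have := locallyOfFiniteType_resι_comp (pr₁ ≫ mY) m
    obtain ⟨-, ⟨φ, hφ⟩⟩ := finite_nonempty_emb (τ := M.left.fromSpecResidueField m ≫ M.hom) (resι m ≫ pr₁ ≫ mY)
    have hφe : Epi φ := epi_fldPt_hom φ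
    have hinj : ∀ (p : M ⟶ resPt w') (hp : p ≫ mY = pr₁ ≫ mY) (i j : Fin (n + 1)),
        φ ≫ resι m ≫ p ≫ t i = φ ≫ resι m ≫ p ≫ t j → i = j := by
      intro p hp i j e
      by_contra hij
      refine (D.distinct.comp (p ≫ y)) m i j hij ((cancel_epi φ).1 ?_)
      simp only [Category.assoc, ← ht₁]
      simpa only [Category.assoc] using congrArg (· ≫ resι w ≫ r) e
    have hE : ∀ (p : M ⟶ resPt w'), p ≫ mY = pr₁ ≫ mY → ∀ i,
        (φ ≫ resι m ≫ p ≫ t i) ≫ resι w ≫ q = acι σ := fun p hp i => by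
      simp only [Category.assoc, ht₂, hp, hφ]
    let F : (p : M ⟶ resPt w') → p ≫ mY = pr₁ ≫ mY → Fin (n + 1) → Fin (n + 1) :=
      fun p hp i => en.symm ⟨φ ≫ resι m ≫ p ≫ t i, hE p hp i⟩
    have hF : ∀ p hp, Function.Injective (F p hp) := fun p hp i j e =>
      hinj p hp i j (congrArg Subtype.val (en.symm.injective e))
    let e₁ := Equiv.ofBijective _ (Finite.injective_iff_bijective.1 (hF pr₁ rfl))
    let e₂ := Equiv.ofBijective _ (Finite.injective_iff_bijective.1 (hF pr₂ pullback.condition.symm))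
    let g := e₁.trans e₂.symm
    have hg : ∀ i, resι m ≫ pr₁ ≫ y ≫ D.x i = resι m ≫ pr₂ ≫ y ≫ D.x (g i) := fun i => by
      have e : F pr₁ rfl i = F pr₂ pullback.condition.symm (g i) := (e₂.apply_symm_apply (e₁ i)).symm
      have e' := congrArg Subtype.val (en.symm.injective e)
      refine (cancel_epi φ).1 ?_
      simp only [← ht₁]
      simpa only [Category.assoc] using congrArg (· ≫ resι w ≫ r) e'
    have hpr : ∀ (p : M ⟶ resPt w') (i : Fin (n + 1)),
        (yon S).map (p ≫ y ≫ D.x i) ≫ a = (yon S).map (p ≫ mY) ≫ z := fun p i =>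
      (congrArg (· ≫ a) ((yon S).map_comp p (y ≫ D.x i))).trans ((Category.assoc _ _ _).trans
        ((congrArg ((yon S).map p ≫ ·) (hcomp i)).trans (((Category.assoc _ _ _).symm).trans
          (congrArg (· ≫ z) ((yon S).map_comp p mY).symm))))
    choose O hmO hO using fun i => exists_open_eq ha (pr₁ ≫ y ≫ D.x i) (pr₂ ≫ y ≫ D.x (g i))
      ((hpr pr₁ i).trans ((congrArg (fun e => (yon S).map e ≫ z) pullback.condition).trans (hpr pr₂ _).symm)) m (hg i)
    refine ⟨⟨⋂ i, (O i : Set M.left), isOpen_iInter_of_finite fun i => (O i).2⟩, Set.mem_iInter.2 hmO, g,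
      fun i => ?_⟩
    have hle : (⟨⋂ i, (O i : Set M.left), isOpen_iInter_of_finite fun i => (O i).2⟩ : M.left.Opens) ≤ O i :=
      Set.iInter_subset (fun i => (O i : Set M.left)) i
    rw [← Scheme.homOfLE_ι _ hle, Category.assoc, Category.assoc, hO i]
  choose O hO gs hgs using hlocal
  have heq : (yon S).map (pr₁ ≫ y) ≫ D.π = (yon S).map (pr₂ ≫ y) ≫ D.π := by
    let 𝒰 : M.left.OpenCover := Scheme.openCoverOfIsOpenCover M.left O
      (TopologicalSpace.Opens.ext (Set.eq_univ_of_forall fun m => TopologicalSpace.Opens.mem_iSup.2 ⟨m, hO m⟩))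
    refine hom_ext_of_openCover 𝒰 _ _ fun m => ?_
    rw [← Functor.map_comp_assoc, ← Functor.map_comp_assoc]
    refine D.perm _ _ (gs m) fun i => Over.OverMorphism.ext ?_
    have h := hgs m i
    simp only [Category.assoc, Over.comp_left, Over.homMk_left] at h ⊢
    exact h
  have hY : fppf mY.left := by
    let m' : Spec (AP.left.residueField w') ⟶ Spec (CommRingCat.of k) := mY.left
    have : LocallyOfFiniteType m' := hmT
    have : Subsingleton ↥(Spec (CommRingCat.of k)) := inferInstanceAs (Subsingleton (PrimeSpectrum k))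
    have : Flat m' := inferInstance
    have : Surjective m' := ⟨fun p => ⟨IsLocalRing.closedPoint (AP.left.residueField w'), Subsingleton.elim _ _⟩⟩
    have : LocallyOfFinitePresentation m' := inferInstance
    exact fppf_of m'
  have : Sheaf.IsLocallySurjective ((yon S).map mY) :=
    isLocallySurjective_of_repWith ((repWith_yon_map_iff _ _).2 hY)
  obtain ⟨g, hg⟩ := exists_desc_of_kernelPair ((IsPullback.of_hasPullback mY mY).map (yon S))
    ((yon S).map y ≫ D.π) (by simpa only [Functor.map_comp, Category.assoc] using heq)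
  refine ⟨U, hU, a, ha, n, D, g, ?_⟩
  have : Epi ((yon S).map mY) := (Sheaf.isLocallySurjective_iff_epi _).1 inferInstance
  rw [← cancel_epi ((yon S).map mY), ← Category.assoc, hg, Category.assoc, D.π_ψ, ← hcomp 0, Functor.map_comp,
    Category.assoc]

/-- Affine étale charts exist through every field-valued point. -/
theorem exists_affine_chart_through (hX : IsAlgSpace X) (z : (yon S).obj (fldPt σ) ⟶ X) :
    ∃ (Z : Over S) (p : (yon S).obj Z ⟶ X) (g : fldPt σ ⟶ Z),
      IsAffine Z.left ∧ RepWith @Etale p ∧ (yon S).map g ≫ p = z := by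
  obtain ⟨U, hU, a, ha, n, D, g, hg⟩ := exists_tupleSpace_lift hX z
  have := D.etale₀
  have := D.sep₀
  let pt₀ : (fldPt σ).left := IsLocalRing.closedPoint k
  obtain ⟨v, hv⟩ := surjective_ofPt D.surj (Points.ofPt g pt₀)
  obtain ⟨V, hV, hVsub⟩ := exists_affineOpen_of_finite (D.x 0).left (D.finite_fibre v)
  obtain ⟨T, j, hj, hmem⟩ :=
    exists_open_subscheme_of_affine_class D.algSpace D.π D.etale D.finite D.surj hV v hVsub
  obtain ⟨g', hg'⟩ := exists_factor_open hj g fun p => by
    rw [show p = pt₀ from Subsingleton.elim (α := PrimeSpectrum k) _ _, ← hv]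
    exact hmem
  obtain ⟨g₁, rfl⟩ := (yon S).map_surjective g'
  obtain ⟨O, hO, hgO, -⟩ := exists_isAffineOpen_mem_and_subset (U := (⊤ : T.left.Opens)) (x := g₁.left pt₀) trivial
  let Z : Over S := Over.mk (O.ι ≫ T.hom)
  let ι : Z ⟶ T := Over.homMk O.ι rfl
  let g₂ : fldPt σ ⟶ Z := Over.homMk (IsOpenImmersion.lift O.ι g₁.left (by
      rintro _ ⟨p, rfl⟩
      rw [show p = pt₀ from Subsingleton.elim (α := PrimeSpectrum k) _ _]
      exact ⟨⟨_, hgO⟩, rfl⟩)) (by
    change _ ≫ O.ι ≫ T.hom = σ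
    rw [IsOpenImmersion.lift_fac_assoc]; exact Over.w g₁)
  have hg₂ : g₂ ≫ ι = g₁ := Over.OverMorphism.ext (IsOpenImmersion.lift_fac _ _ _)
  refine ⟨Z, (yon S).map ι ≫ j ≫ D.ψ, g₂, hO, repWith_comp
    ((repWith_yon_map_iff _ _).2 (inferInstanceAs (Etale O.ι))) ?_, ?_⟩
  · have : Etale (D.etale.rep.snd j).left := D.etale.property_snd j
    have : Surjective (D.etale.rep.snd j).left := D.surj.property _ _ _ (D.etale.rep.isPullback j)
    have : IsOpenImmersion (D.etale.rep.fst' j).left := hj.property _ _ _ (D.etale.rep.isPullback' j).flip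
    refine repWith_etale_of_precomp hX (D.etale.rep.snd j) (j ≫ D.ψ) ?_
    rw [← Category.assoc, ← D.etale.rep.w j, ← D.etale.rep.map_fst' j, Category.assoc, D.π_ψ,
      ← Functor.map_comp_assoc]
    exact repWith_comp ((repWith_yon_map_iff _ _).2
      (inferInstanceAs (Etale ((D.etale.rep.fst' j).left ≫ (D.x 0).left)))) ha
  · rw [← Functor.map_comp_assoc, hg₂, ← Category.assoc, hg', hg]

end Groth.Agent.AlgSpQ4
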