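import Groth.Agent.AlgSpQ4.Tuples
import Groth.Agent.AlgSpDec.MonoPoint
import Mathlib.AlgebraicGeometry.Morphisms.QuasiFinite
import Mathlib.FieldTheory.IsAlgClosed.AlgebraicClosure
import Mathlib.RingTheory.Jacobson.Ring

/-!
# Points of étale charts over fields
-/

set_option backward.isDefEq.respectTransparency false
set_option backward.isDefEq.respectTransparency.types false

universe u

open CategoryTheory Limits AlgebraicGeometry AlgSp Groth.Agent.AlgSpLib Groth.Agent.AlgSpDec

namespace Groth.Agent.AlgSpQ4

variable {S : Scheme.{u}}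

/-- A scheme over `S` given by the spectrum of a field. -/
noncomputable abbrev fldPt {k : Type u} [Field k] (σ : Spec (CommRingCat.of k) ⟶ S) : Over S := Over.mk σ

theorem epi_fldPt_hom {k L : Type u} [Field k] [Field L] {σ : Spec (CommRingCat.of k) ⟶ S}
    {τ : Spec (CommRingCat.of L) ⟶ S} (m : fldPt τ ⟶ fldPt σ) : Epi m := by
  let m' : Spec (CommRingCat.of L) ⟶ Spec (CommRingCat.of k) := m.left
  have : Subsingleton ↥(Spec (CommRingCat.of k)) := inferInstanceAs (Subsingleton (PrimeSpectrum k))
  have : Flat m' := inferInstance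
  have : QuasiCompact m' := inferInstance
  have : Surjective m' := ⟨fun y => ⟨IsLocalRing.closedPoint L, Subsingleton.elim _ _⟩⟩
  have : Epi m' := Flat.epi_of_flat_of_surjective m'
  exact (Over.forget S).epi_of_epi_map (inferInstanceAs (Epi m'))

theorem PtDistinct.comp {U P T : Over S} {n : ℕ} {x : Fin (n + 1) → (P ⟶ U)} (h : PtDistinct x)
    (l : T ⟶ P) : PtDistinct fun i => l ≫ x i := by
  intro z i j hij e
  let m : resPt z ⟶ resPt (l.left z) := Over.homMk (Spec.map (l.left.residueFieldMap z)) (by
    change Spec.map _ ≫ P.left.fromSpecResidueField _ ≫ P.hom = T.left.fromSpecResidueField z ≫ T.hom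
    rw [Scheme.Hom.SpecMap_residueFieldMap_fromSpecResidueField_assoc, Over.w l])
  have hm : m ≫ resι (l.left z) = resι z ≫ l :=
    Over.OverMorphism.ext (Scheme.Hom.SpecMap_residueFieldMap_fromSpecResidueField l.left z)
  have : Epi m := epi_fldPt_hom m
  refine h (l.left z) i j hij ((cancel_epi m).1 ?_)
  rw [reassoc_of% hm, reassoc_of% hm]
  exact e

theorem mono_resι {T : Over S} (z : T.left) : Mono (resι z) :=
  (Over.forget S).mono_of_mono_map (inferInstanceAs (Mono (T.left.fromSpecResidueField z)))

theorem resι_apply {T : Over S} (z : T.left) (p) : (resι z).left p = z :=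
  Scheme.fromSpecResidueField_apply z p

/-- A morphism from a field point factors through the residue field of its image. -/
theorem exists_factor_resι {K : Type u} [Field K] {τ : Spec (CommRingCat.of K) ⟶ S} {T : Over S}
    (f : fldPt τ ⟶ T) (z : T.left) (hz : f.left (IsLocalRing.closedPoint K) = z) :
    ∃ l : fldPt τ ⟶ resPt z, l ≫ resι z = f := by
  have : Subsingleton ↥(Spec (CommRingCat.of K)) := inferInstanceAs (Subsingleton (PrimeSpectrum K))
  let f' : Spec (CommRingCat.of K) ⟶ T.left := f.left
  obtain ⟨l, hl⟩ := exists_factor_residueField f' z fun t => by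
    rw [Subsingleton.elim t (IsLocalRing.closedPoint K)]; exact hz
  exact ⟨Over.homMk l (by
    change l ≫ T.left.fromSpecResidueField z ≫ T.hom = τ
    rw [reassoc_of% hl]; exact Over.w f), Over.OverMorphism.ext hl⟩

theorem discreteTopology_of_lqf_field {k : Type u} [Field k] {A : Scheme.{u}}
    (q : A ⟶ Spec (CommRingCat.of k)) [LocallyQuasiFinite q] : DiscreteTopology ↥A := by
  have : Subsingleton ↥(Spec (CommRingCat.of k)) := inferInstanceAs (Subsingleton (PrimeSpectrum k))
  refine isDiscrete_univ_iff.1 ?_
  have hu : q ⁻¹' {IsLocalRing.closedPoint k} = Set.univ :=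
    Set.eq_univ_of_forall fun x => Subsingleton.elim _ _
  exact hu ▸ q.isDiscrete_preimage_singleton _

theorem locallyOfFiniteType_resι_comp {k : Type u} [Field k] {σ : Spec (CommRingCat.of k) ⟶ S} {A : Over S}
    (q : A ⟶ fldPt σ) [LocallyQuasiFinite q.left] [LocallyOfFiniteType q.left] (w : A.left) :
    LocallyOfFiniteType (resι w ≫ q).left := by
  have : DiscreteTopology ↥A.left := discreteTopology_of_lqf_field (k := k) q.left
  have : IsClosedImmersion (A.left.fromSpecResidueField w) :=
    isClosed_singleton_iff_isClosedImmersion.1 (isClosed_discrete _)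
  exact inferInstanceAs (LocallyOfFiniteType (A.left.fromSpecResidueField w ≫ q.left))

variable {k : Type u} [Field k] {σ : Spec (CommRingCat.of k) ⟶ S}

/-- The geometric point over a field point. -/
noncomputable abbrev acPt (σ : Spec (CommRingCat.of k) ⟶ S) : Over S :=
  fldPt (Spec.map (CommRingCat.ofHom (algebraMap k (AlgebraicClosure k))) ≫ σ)

/-- The map from the geometric point. -/
noncomputable abbrev acι (σ : Spec (CommRingCat.of k) ⟶ S) : acPt σ ⟶ fldPt σ :=
  Over.homMk (Spec.map (CommRingCat.ofHom (algebraMap k (AlgebraicClosure k)))) rfl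

/-- The embeddings of a finite extension into the algebraic closure. -/
theorem finite_nonempty_emb {L : Type u} [Field L] {τ : Spec (CommRingCat.of L) ⟶ S}
    (m : fldPt τ ⟶ fldPt σ) [LocallyOfFiniteType m.left] :
    Finite {φ : acPt σ ⟶ fldPt τ // φ ≫ m = acι σ} ∧ Nonempty {φ : acPt σ ⟶ fldPt τ // φ ≫ m = acι σ} := by
  obtain ⟨g, hg⟩ := Spec.map_surjective (m.left : Spec (CommRingCat.of L) ⟶ Spec (CommRingCat.of k))
  algebraize [g.hom]
  have hft : LocallyOfFiniteType (Spec.map g) := by rw [hg]; infer_instance
  have : Algebra.FiniteType k L := (HasRingHomProperty.Spec_iff (P := @LocallyOfFiniteType)).1 hft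
  have : Module.Finite k L := finite_of_finite_type_of_isJacobsonRing k L
  have key : ∀ φ : {φ : acPt σ ⟶ fldPt τ // φ ≫ m = acι σ},
      ∀ r, (Spec.preimage (φ.1.left : Spec (CommRingCat.of (AlgebraicClosure k)) ⟶ Spec (CommRingCat.of L))).hom
        (algebraMap k L r) = algebraMap k (AlgebraicClosure k) r := by
    intro φ r
    have h : g ≫ Spec.preimage (φ.1.left : Spec (CommRingCat.of (AlgebraicClosure k)) ⟶ Spec (CommRingCat.of L)) =
        CommRingCat.ofHom (algebraMap k (AlgebraicClosure k)) := Spec.map_injective (by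
      rw [Spec.map_comp, Spec.map_preimage, hg]; exact congrArg (fun e => e.left) φ.2)
    exact congr(($h).hom r)
  refine ⟨?_, ?_⟩
  · have : Finite (L →ₐ[k] AlgebraicClosure k) := Fintype.finite (minpoly.AlgHom.fintype _ _ _)
    refine Finite.of_injective (fun φ => ({ (Spec.preimage (φ.1.left :
      Spec (CommRingCat.of (AlgebraicClosure k)) ⟶ Spec (CommRingCat.of L))).hom with commutes' := key φ } :
        L →ₐ[k] AlgebraicClosure k)) fun φ φ' h => Subtype.ext (Over.OverMorphism.ext ?_)
    have h' : Spec.preimage (φ.1.left : Spec (CommRingCat.of (AlgebraicClosure k)) ⟶ Spec (CommRingCat.of L)) =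
        Spec.preimage (φ'.1.left : Spec (CommRingCat.of (AlgebraicClosure k)) ⟶ Spec (CommRingCat.of L)) :=
      CommRingCat.hom_ext (congrArg AlgHom.toRingHom h)
    have h'' := congrArg Spec.map h'
    rwa [Spec.map_preimage, Spec.map_preimage] at h''
  · let f : L →ₐ[k] AlgebraicClosure k := IsAlgClosed.lift
    have hf : g ≫ CommRingCat.ofHom f.toRingHom = CommRingCat.ofHom (algebraMap k (AlgebraicClosure k)) := by
      ext r; exact f.commutes r
    have hm : Spec.map (CommRingCat.ofHom f.toRingHom) ≫ m.left =
        Spec.map (CommRingCat.ofHom (algebraMap k (AlgebraicClosure k))) := by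
      rw [← hg, ← Spec.map_comp, hf]
    exact ⟨⟨Over.homMk (Spec.map (CommRingCat.ofHom f.toRingHom)) (by
      rw [← Over.w m, reassoc_of% hm]; rfl), Over.OverMorphism.ext hm⟩⟩

end Groth.Agent.AlgSpQ4
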