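import Groth.Agent.Dsp6.DiscreteFibre
import Groth.Agent.AlgSpDec.DecentMor
import Groth.Agent.AlgSpDec.LimDescentRep

/-!
# Proper morphisms with a finite fibre
-/

set_option backward.isDefEq.respectTransparency false
set_option backward.isDefEq.respectTransparency.types false

universe u

open CategoryTheory Limits AlgebraicGeometry AlgSp Groth.Agent.AlgSpLib Groth.Agent.AlgSpPts Groth.Agent.AlgSpDec

namespace Groth.Agent.AlgSpQ4

variable {S : Scheme.{u}}

/-- A decent space locally of finite type over a field with finitely many points is discrete. -/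
theorem discreteTopology_of_finite {k : Type u} [Field k] {str : Spec (CommRingCat.of k) ⟶ S} {P : Sp S}
    (hP : IsAlgSpace P) (hd : IsDecent P) (q : P ⟶ (yon S).obj (Over.mk str))
    (hq : LocP @LocallyOfFiniteType q) [Finite (Points P)] : DiscreteTopology (Points P) := by
  refine discreteTopology_iff_isOpen_singleton.2 fun x => ?_
  obtain ⟨U, a, u, hU, ha, rfl⟩ := exists_affine_chart_at hP x
  obtain ⟨g, hg⟩ := (yon S).map_surjective (a ≫ q)
  let g' : U.left ⟶ Spec (CommRingCat.of k) := g.left
  have : LocallyOfFiniteType g' := hq a (𝟙 _) g ha (repWith_id _ _) (by rw [Category.comp_id]; exact hg.symm)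
  have : JacobsonSpace ↥U.left := LocallyOfFiniteType.jacobsonSpace g'
  have hfin : (Set.univ : Set ↥U.left).Finite := by
    rw [← Set.preimage_univ (f := Points.ofPt a), ← Set.biUnion_preimage_singleton]
    exact Set.Finite.biUnion Set.finite_univ fun z _ => AlgSpDec.finite_fibre hP hd ha z
  have : Finite ↥U.left := Set.finite_univ_iff.1 hfin
  have : DiscreteTopology ↥U.left := inferInstance
  have h := isOpenMap_ofPt ha {u} (isOpen_discrete _)
  rwa [Set.image_singleton] at h

/-- A proper morphism is quasi-finite over a point with finite fibre. -/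
theorem qfAt_of_finite_fibre {X Y : Space S} (f : X ⟶ Y) (hf : IsProperMor f.hom) (y : FieldPt Y.obj)
    {P : Sp S} {fst : P ⟶ X.obj} {snd : P ⟶ (yon S).obj y.pt} (sq : IsPullback fst snd f.hom y.toHom)
    [Finite (Points P)] (x : Points X.obj) (hx : Points.map f.hom x = Points.mk y) :
    HasAtMor Dsp6.QFQ f.hom x := by
  have hF := X.property
  have hG := Y.property
  have hP := isAlgSpace_of_isPullback sq hF (IsAlgSpace.yon_obj _) hG
  have hl := hf.2.1.1
  have hd : IsDecent P := isDecent_of_isDecentMor hP snd
    (isDecentMor_of_isQuasiSeparatedMor hP (IsAlgSpace.yon_obj _) snd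
      (isQuasiSeparatedMor_of_isSeparatedMor (isSeparatedMor_of_isPullback sq hf.1))) (isDecent_yon _)
  have hl' := locP_of_isPullback sq hF hG (IsAlgSpace.yon_obj _) hl
  have := discreteTopology_of_finite (k := y.K) hP hd snd hl'
  obtain ⟨z, hz, -⟩ := exists_point_of_isPullback sq (x := x)
    (y := Points.ofScheme y.pt (IsLocalRing.closedPoint y.K))
    (by rw [Points.map_ofPt, Category.id_comp, Points.ofPt_toHom, hx])
  obtain ⟨U, a, ha, has⟩ := hP.atlas
  obtain ⟨g, hg⟩ := (yon S).map_surjective (a ≫ snd)
  obtain ⟨u, hu⟩ := surjective_ofPt has z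
  have : LocallyOfFiniteType g.left :=
    hl' a (𝟙 _) g ha (repWith_id _ _) (by rw [Category.comp_id]; exact hg.symm)
  rw [Dsp6.qfAt_iff hl, ← hz]
  exact FieldFibre.hasAtMor_zero_of_fibre sq hF hG hl z a ha g hg.symm u hu
    (FieldFibre.fibreDimAt_zero_of_discrete ha hg.symm u)

end Groth.Agent.AlgSpQ4
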