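import Groth.Agent.AlgSpDec.SchImageChart
import Groth.Agent.AlgSpDec.AffineRep
import Groth.Agent.AlgSpLib.EtLocalInst
import Groth.Agent.S4667
import Groth.Prelude.Def_Neron
import Mathlib.RingTheory.Flat.TorsionFree

/-!
# Closures of closed subspaces of the generic fibre over a Dedekind domain
-/

set_option backward.isDefEq.respectTransparency false
set_option backward.isDefEq.respectTransparency.types false

universe u

open CategoryTheory Limits AlgebraicGeometry AlgSp Groth.Agent.AlgSpLib Groth.Agent.AlgSpPts Groth.Agent.AlgSpDec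

namespace Groth.Agent.AlgSpQ4

/-- If a map through a closed subscheme has the same kernel as the subscheme, it is scheme theoretically
dominant into it. -/
theorem ker_eq_bot_of_ker_comp {T Z U : Scheme.{u}} (l : T ⟶ Z) (ι : Z ⟶ U) [IsClosedImmersion ι] [QuasiCompact l]
    (h : (l ≫ ι).ker = ι.ker) : l.ker = ⊥ := by
  let j := l.ker.subschemeι
  have hj : j.ker = l.ker := l.ker.ker_subschemeι
  obtain ⟨v, hv⟩ : ∃ v, v ≫ j ≫ ι = ι := by
    refine ⟨IsClosedImmersion.lift (j ≫ ι) ι ?_, IsClosedImmersion.lift_fac _ _ _⟩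
    rw [Scheme.Hom.ker_comp, hj, ← Scheme.Hom.ker_comp, h]
  have hv' : v ≫ j = 𝟙 Z := by rw [← cancel_mono ι, Category.assoc, hv, Category.id_comp]
  refine le_antisymm ?_ bot_le
  rw [← hj]
  refine (Scheme.Hom.le_ker_comp v j).trans ?_
  rw [hv']
  exact (Scheme.Hom.ker_eq_bot_of_isIso (𝟙 Z)).le

variable {R : Type u} [CommRing R] [IsDedekindDomain R]

theorem ker_genPt : (Neron.genPt R).ker = ⊥ := by
  refine le_antisymm ?_ bot_le
  refine Scheme.IdealSheafData.le_of_isAffine ?_
  rw [Scheme.Hom.ker_apply, Scheme.IdealSheafData.ideal_bot]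
  intro r hr
  have hinj : Function.Injective (Neron.genPt R).appTop.hom := by
    intro a b e
    have h := Scheme.ΓSpecIso_naturality (CommRingCat.ofHom (algebraMap R (FractionRing R)))
    have e' := congrArg (Scheme.ΓSpecIso (CommRingCat.of (FractionRing R))).hom.hom e
    rw [← CommRingCat.comp_apply, ← CommRingCat.comp_apply, h] at e'
    exact (ConcreteCategory.bijective_of_isIso (Scheme.ΓSpecIso (CommRingCat.of R)).hom).1
      (IsFractionRing.injective R (FractionRing R) e')
  exact hinj ((RingHom.mem_ker.1 hr).trans (map_zero _).symm)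

theorem flat_of_ker_eq_bot_affine {A B : CommRingCat.{u}} (ψ : A ⟶ B) (hψ : Function.Injective ψ)
    (φ : CommRingCat.of R ⟶ A) (θ : CommRingCat.of (FractionRing R) ⟶ B)
    (w : φ ≫ ψ = CommRingCat.ofHom (algebraMap R (FractionRing R)) ≫ θ) : φ.hom.Flat := by
  algebraize [φ.hom]
  have : Module.IsTorsionFree R A := .mk fun r hr a b e => by
    have hu : IsUnit (ψ (φ r)) := by
      rw [show ψ (φ r) = θ (algebraMap R (FractionRing R) r) from congr(($w).hom r)]
      exact (IsUnit.mk0 _ (IsFractionRing.to_map_ne_zero_of_mem_nonZeroDivisors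
        (mem_nonZeroDivisors_of_ne_zero hr.ne_zero))).map θ.hom
    apply hψ
    have e' : ψ (φ r) * ψ a = ψ (φ r) * ψ b := by rw [← map_mul, ← map_mul]; exact congrArg ψ e
    exact hu.mul_left_cancel e'
  exact (inferInstance : Module.Flat R A)

theorem flat_of_ker_eq_bot {T Z : Scheme.{u}} (k : T ⟶ Z) [IsAffineHom k] (hk : k.ker = ⊥)
    (g : Z ⟶ Spec (CommRingCat.of R)) (l : T ⟶ Spec (CommRingCat.of (FractionRing R)))
    (w : k ≫ g = l ≫ Neron.genPt R) : Flat g := by
  refine (IsZariskiLocalAtSource.iff_of_openCover (P := @Flat) Z.affineCover).2 fun i => ?_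
  let o := Z.affineCover.f i
  let k' := pullback.snd k o
  have hk' : k'.ker = ⊥ := by rw [Groth.Agent.S4667.result k o, hk, Scheme.IdealSheafData.comap_bot]
  have : IsAffine (pullback k o) := isAffine_of_isAffineHom k'
  let e := (pullback k o).isoSpec
  obtain ⟨ψ, hψ⟩ := Spec.map_surjective (e.inv ≫ k')
  obtain ⟨φ, hφ⟩ := Spec.map_surjective (o ≫ g)
  obtain ⟨θ, hθ⟩ := Spec.map_surjective (e.inv ≫ pullback.fst k o ≫ l)
  have hψi : Function.Injective ψ := by
    have hb : (Spec.map ψ).ker = ⊥ := by rw [hψ, Scheme.Hom.ker_comp_of_isIso, hk']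
    rw [injective_iff_map_eq_zero]
    intro a ha
    have h0 := congrArg (fun I => I.ideal ⟨⊤, isAffineOpen_top _⟩) hb
    simp only [Scheme.Hom.ker_apply, Scheme.IdealSheafData.ideal_bot, Pi.bot_apply] at h0
    have hmem : (Scheme.ΓSpecIso _).inv a ∈ RingHom.ker ((Spec.map ψ).app ⊤).hom := by
      rw [RingHom.mem_ker]
      show (Spec.map ψ).appTop ((Scheme.ΓSpecIso _).inv a) = 0
      rw [← CommRingCat.comp_apply, ← Scheme.ΓSpecIso_inv_naturality, CommRingCat.comp_apply, ha, map_zero]
    rw [h0, Ideal.mem_bot] at hmem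
    exact (ConcreteCategory.bijective_of_isIso (Scheme.ΓSpecIso _).inv).1 (hmem.trans (map_zero _).symm)
  have hw : φ ≫ ψ = CommRingCat.ofHom (algebraMap R (FractionRing R)) ≫ θ := by
    apply Spec.map_injective
    rw [Spec.map_comp, Spec.map_comp, hψ, hφ, hθ, Category.assoc, Category.assoc, Category.assoc,
      ← pullback.condition_assoc, w]
  show Flat (o ≫ g)
  rw [← hφ]
  exact (HasRingHomProperty.Spec_iff (P := @Flat)).2 (flat_of_ker_eq_bot_affine ψ hψi φ θ hw)

section Space

variable {Y YK H Z : Space (Spec (CommRingCat.of R))}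
  {pY : Y.obj ⟶ (yon (Spec (CommRingCat.of R))).obj (Over.mk (𝟙 (Spec (CommRingCat.of R))))}
  {pr : YK ⟶ Y} {qK : YK.obj ⟶ (yon (Spec (CommRingCat.of R))).obj (Over.mk (Neron.genPt R))}
  (hYK : IsPullback pr.hom qK pY
    ((yon (Spec (CommRingCat.of R))).map (Over.mkIdTerminal.from (Over.mk (Neron.genPt R)))))
  {k : H ⟶ YK} (hk : RepWith @IsClosedImmersion k.hom) {i : Z ⟶ Y} (hZ : IsSchImage (k.hom ≫ pr.hom) i.hom)

include hYK in
theorem repWith_pr : RepWith (@Flat ⊓ @IsAffineHom) pr.hom ∧ Mono pr.hom := by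
  let g := Over.mkIdTerminal.from (Over.mk (Neron.genPt R))
  have e : g.left = Neron.genPt R := (Category.comp_id _).symm.trans (Over.w g)
  have hfl : (algebraMap R (FractionRing R)).Flat :=
    RingHom.flat_algebraMap_iff.2 (IsLocalization.flat _ (nonZeroDivisors R))
  have h1 : Flat g.left := by rw [e]; exact (HasRingHomProperty.Spec_iff (P := @Flat)).2 hfl
  have : IsAffineHom (Neron.genPt R) := isAffineHom_of_isAffine _
  have h2 : IsAffineHom g.left := by rw [e]; assumption
  have : Mono g := by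
    refine (Over.forget _).mono_of_mono_map (show Mono g.left from ?_)
    rw [e]
    have : IsPreimmersion (Spec.map (CommRingCat.ofHom (algebraMap R (FractionRing R)))) :=
      IsPreimmersion.of_isLocalization (nonZeroDivisors R)
    exact (inferInstance : Mono (Spec.map (CommRingCat.ofHom (algebraMap R (FractionRing R)))))
  have : Mono ((yon (Spec (CommRingCat.of R))).map g) := (yon _).map_mono g
  exact ⟨repWith_of_isPullback hYK.flip ((repWith_yon_map_iff _ g).2 ⟨h1, h2⟩), hYK.mono_fst_of_mono⟩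

include hYK hk hZ in
/-- The data of the closure on an etale chart. -/
theorem generic_chart : ∃ (U UK T ZU : Over (Spec (CommRingCat.of R))) (b : (yon _).obj U ⟶ Y.obj)
    (bK : (yon _).obj UK ⟶ YK.obj) (bH : (yon _).obj T ⟶ H.obj) (bZ : (yon _).obj ZU ⟶ Z.obj)
    (p : UK ⟶ U) (t : T ⟶ UK) (ι : ZU ⟶ U),
    RepWith @Etale b ∧ RepWith @Surjective b ∧ IsPullback bK ((yon _).map p) pr.hom b ∧ IsPullback bH ((yon _).map t) k.hom bK ∧
      IsPullback bZ ((yon _).map ι) i.hom b ∧ Flat p.left ∧ IsAffineHom p.left ∧ Mono p ∧ IsClosedImmersion t.left ∧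
      IsClosedImmersion ι.left ∧ ι.left.ker = (t ≫ p).left.ker := by
  obtain ⟨hpr, hprm⟩ := repWith_pr hYK
  obtain ⟨U, b, hb, hbs⟩ := Y.property.atlas
  let p := hpr.rep.snd b
  let bK := hpr.rep.fst b
  have sqK : IsPullback bK ((yon _).map p) pr.hom b := hpr.rep.isPullback b
  obtain ⟨hp1, hp2⟩ : Flat p.left ∧ IsAffineHom p.left := hpr.property_snd b
  have : Mono ((yon _).map p) := sqK.mono_snd_of_mono
  have hpm : Mono p := (yon _).mono_of_mono_map this
  let t := hk.rep.snd bK
  let bH := hk.rep.fst bK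
  have sqT : IsPullback bH ((yon _).map t) k.hom bK := hk.rep.isPullback bK
  have ht : IsClosedImmersion t.left := hk.property_snd bK
  obtain ⟨hzi, -, -⟩ := id hZ
  have sqf : IsPullback bH ((yon _).map (t ≫ p)) (k.hom ≫ pr.hom) b := by
    rw [Functor.map_comp]; exact sqT.paste_vert sqK
  let c : (yon _).obj _ ⟶ pullback (k.hom ≫ pr.hom) b := sqf.isoPullback.hom
  have : QuasiCompact (t ≫ p).left := inferInstanceAs (QuasiCompact (t.left ≫ p.left))
  have hker := schImage_chart H.property Y.property hb hbs (c := c) (k := t ≫ p)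
    (AlgSpLib.repWith_of_isIso _ _) (AlgSpLib.repWith_of_isIso _ _) sqf.isoPullback_hom_snd hZ
  exact ⟨U, _, _, _, b, bK, bH, hzi.rep.fst b, p, t, hzi.rep.snd b, hb, hbs, sqK, sqT, hzi.rep.isPullback b,
    hp1, hp2, hpm, ht, hzi.property_snd b, hker⟩

include hYK hk hZ in
theorem locP_flat_schImage : LocP @Flat (i.hom ≫ pY) := by
  obtain ⟨U, UK, T, ZU, b, bK, bH, bZ, p, t, ι, hb, hbs, sqK, sqT, sqZ, hp1, hp2, hpm, ht, hι, hker⟩ :=
    generic_chart hYK hk hZ
  obtain ⟨u, hu⟩ := (yon _).map_surjective (b ≫ pY)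
  refine locP_of_chart (a := bZ) (b := 𝟙 _) (h := ι ≫ u) (repWith_of_isPullback sqZ.flip hb)
    (repWith_of_isPullback sqZ.flip hbs) (repWith_id _ _) ?_ ?_
  · rw [Category.comp_id, ← Category.assoc, sqZ.w, Functor.map_comp, hu, Category.assoc]
  have e : (ι ≫ u).left = ZU.hom := (Category.comp_id _).symm.trans (Over.w (ι ≫ u))
  rw [e]
  let l : T.left ⟶ ZU.left := IsClosedImmersion.lift ι.left (t ≫ p).left hker.le
  have hl : l ≫ ι.left = (t ≫ p).left := IsClosedImmersion.lift_fac _ _ _
  have : IsAffineHom (l ≫ ι.left) := by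
    rw [hl]; exact inferInstanceAs (IsAffineHom (t.left ≫ p.left))
  have : IsAffineHom l := IsAffineHom.of_comp l ι.left
  obtain ⟨v, hv⟩ := (yon _).map_surjective (bK ≫ qK)
  refine flat_of_ker_eq_bot l (ker_eq_bot_of_ker_comp l ι.left (by rw [hl]; exact hker.symm)) ZU.hom
    ((t ≫ v).left) ?_
  rw [← Over.w ι, ← Category.assoc, hl, Over.w (t ≫ p)]
  exact (Over.w (t ≫ v)).symm

include hYK hk hZ in
theorem exists_generic_fibre : ∃ m : H ⟶ Z, m ≫ i = k ≫ pr ∧ IsPullback m.hom k.hom i.hom pr.hom := by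
  obtain ⟨hzi, ⟨f', hf'⟩, -⟩ := id hZ
  obtain ⟨U, UK, T, ZU, b, bK, bH, bZ, p, t, ι, hb, hbs, sqK, sqT, sqZ, hp1, hp2, hpm, ht, hι, hker⟩ :=
    generic_chart hYK hk hZ
  have : Mono k.hom := AlgSpDec.mono_of_closedImmersion hk
  have : Mono i.hom := AlgSpDec.mono_of_closedImmersion hzi
  let Zk := pullback i.hom pr.hom
  have sq := IsPullback.of_hasPullback i.hom pr.hom
  have hzk : RepWith @IsClosedImmersion (pullback.snd i.hom pr.hom) := repWith_of_isPullback sq hzi
  have sqW : IsPullback (hzk.rep.fst bK) ((yon _).map (hzk.rep.snd bK)) (pullback.snd i.hom pr.hom) bK :=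
    hzk.rep.isPullback bK
  have hbK : RepWith @Etale bK := repWith_of_isPullback sqK.flip hb
  have hbKs : RepWith @Surjective bK := repWith_of_isPullback sqK.flip hbs
  obtain ⟨z, hz⟩ : ∃ z, z ≫ k.hom = pullback.snd i.hom pr.hom := by
    refine exists_factor_of_cover (b := hzk.rep.fst bK) (repWith_of_isPullback sqW.flip hbK)
      (repWith_of_isPullback sqW.flip hbKs) _ ?_
    rw [sqW.w, ← factor_iff_of_isPullback sqT, factor_iff_ker_le]
    obtain ⟨r, hr⟩ := (yon _).map_surjective (sqZ.lift (hzk.rep.fst bK ≫ pullback.fst i.hom pr.hom)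
      ((yon _).map (hzk.rep.snd bK ≫ p)) (by
        rw [Category.assoc, pullback.condition, ← Category.assoc, sqW.w, Category.assoc, sqK.w, Functor.map_comp,
          Category.assoc]))
    have hr' : r ≫ ι = hzk.rep.snd bK ≫ p := (yon _).map_injective (by
      rw [Functor.map_comp, hr, sqZ.lift_snd])
    have hle : ι.left.ker ≤ (hzk.rep.snd bK ≫ p).left.ker := by
      rw [← hr', Over.comp_left]; exact Scheme.Hom.le_ker_comp _ _
    rw [hker] at hle
    replace hle : (t ≫ p).left.ker ≤ (hzk.rep.snd bK).left.ker.map p.left :=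
      hle.trans (le_of_eq (Scheme.Hom.ker_comp (hzk.rep.snd bK).left p.left))
    rw [Scheme.IdealSheafData.le_map_iff_comap_le] at hle
    refine le_trans (le_of_eq ?_) hle
    have : QuasiCompact (t ≫ p).left := inferInstanceAs (QuasiCompact (t.left ≫ p.left))
    rw [← Groth.Agent.S4667.result (t ≫ p).left p.left]
    have : Mono p.left := (inferInstance : Mono ((Over.forget _).map p))
    have sqm : IsPullback (𝟙 T.left) t.left (t ≫ p).left p.left := (IsPullback.of_horiz_isIso_mono
      ⟨by simp [Category.id_comp]⟩).flip.flip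
    rw [← Scheme.Hom.ker_comp_of_isIso sqm.isoPullback.hom, sqm.isoPullback_hom_snd]
  let m : H ⟶ Z := ObjectProperty.homMk f'
  refine ⟨m, ObjectProperty.hom_ext _ hf', sq.of_iso (Iso.mk z (pullback.lift f' k.hom hf') ?_ ?_)
    (Iso.refl _) (Iso.refl _) (Iso.refl _) ?_ ?_ (by simp) (by simp)⟩
  · rw [← cancel_mono (pullback.snd i.hom pr.hom), Category.assoc, pullback.lift_snd, hz, Category.id_comp]
  · rw [← cancel_mono k.hom, Category.assoc, hz, pullback.lift_snd, Category.id_comp]
  · rw [← cancel_mono i.hom]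
    simp only [Iso.refl_hom, Category.comp_id, Category.assoc]
    show pullback.fst i.hom pr.hom ≫ i.hom = z ≫ f' ≫ i.hom
    rw [hf', ← Category.assoc, hz, pullback.condition]
  · simp only [Iso.refl_hom, Category.comp_id]
    exact hz.symm

include hYK hk hZ in
theorem exists_iso_of_flat (Z' : Space (Spec (CommRingCat.of R))) (i' : Z' ⟶ Y) (m' : H ⟶ Z')
    (hi' : RepWith @IsClosedImmersion i'.hom) (hfl : LocP @Flat (i'.hom ≫ pY))
    (hpb : IsPullback m'.hom k.hom i'.hom pr.hom) : ∃ e : Z ≅ Z', e.hom ≫ i' = i := by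
  obtain ⟨U, UK, T, ZU, b, bK, bH, bZ, p, t, ι, hb, hbs, sqK, sqT, sqZ, hp1, hp2, hpm, ht, hι, hker⟩ :=
    generic_chart hYK hk hZ
  obtain ⟨hzi, -, hmin⟩ := id hZ
  have : Mono i.hom := AlgSpDec.mono_of_closedImmersion hzi
  have : Mono i'.hom := AlgSpDec.mono_of_closedImmersion hi'
  obtain ⟨l, hl⟩ := hmin i'.hom Z'.property hi' ⟨m'.hom, hpb.w⟩
  obtain ⟨n, hn⟩ : ∃ n, n ≫ i.hom = i'.hom := by
    let bZ' := hi'.rep.fst b
    let ι' := hi'.rep.snd b
    have sqZ' : IsPullback bZ' ((yon _).map ι') i'.hom b := hi'.rep.isPullback b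
    refine exists_factor_of_cover (b := bZ') (repWith_of_isPullback sqZ'.flip hb)
      (repWith_of_isPullback sqZ'.flip hbs) _ ?_
    rw [sqZ'.w, ← factor_iff_of_isPullback sqZ, factor_iff_ker_le, hker]
    -- the generic fibre of the chart of the other subspace is the chart of `H`
    have sqH : IsPullback bH ((yon _).map (t ≫ p)) (k.hom ≫ pr.hom) b := by
      rw [Functor.map_comp]; exact sqT.paste_vert sqK
    obtain ⟨s, hs⟩ := (yon _).map_surjective (sqZ'.lift (bH ≫ m'.hom) ((yon _).map (t ≫ p)) (by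
      rw [Category.assoc, hpb.w, sqH.w]))
    have hs₂ : s ≫ ι' = t ≫ p := (yon _).map_injective (by rw [Functor.map_comp, hs, sqZ'.lift_snd])
    obtain ⟨u, hu⟩ := (yon _).map_surjective (b ≫ pY)
    obtain ⟨v, hv⟩ := (yon _).map_surjective (bH ≫ k.hom ≫ qK)
    have hflat : Flat (ι' ≫ u).left := hfl bZ' (𝟙 _) (ι' ≫ u) (repWith_of_isPullback sqZ'.flip hb) (repWith_id _ _)
      (by rw [Category.comp_id, ← Category.assoc, sqZ'.w, Functor.map_comp, hu, Category.assoc])
    -- `T` is the base change of the generic point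
    let g := Over.mkIdTerminal.from (Over.mk (Neron.genPt R))
    have sq1 : IsPullback ((yon _).map s) bH bZ' m'.hom :=
      (IsPullback.of_bot (by rw [← Functor.map_comp, hs₂, hpb.w]; exact sqH) (by rw [hs, sqZ'.lift_fst]) sqZ').flip
    have sq2 : IsPullback ((yon _).map s) ((yon _).map v) ((yon _).map (ι' ≫ u)) ((yon _).map g) := by
      rw [Functor.map_comp _ ι' u, hu, ← Category.assoc, ← sqZ'.w, Category.assoc, hv]
      exact sq1.paste_vert (hpb.paste_vert hYK)
    have sq3 : IsPullback s.left v.left (ι' ≫ u).left g.left :=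
      (IsPullback.of_map (yon _) ((yon _).map_injective (by rw [Functor.map_comp, Functor.map_comp]; exact sq2.w)) sq2).map
        (Over.forget _)
    have eg : g.left = Neron.genPt R := (Category.comp_id _).symm.trans (Over.w g)
    rw [eg] at sq3
    have : QuasiCompact (Neron.genPt R) := inferInstanceAs (QuasiCompact (Spec.map _))
    have hskb : s.left.ker = ⊥ := by
      rw [← sq3.flip.isoPullback_hom_snd, Scheme.Hom.ker_comp_of_isIso, Groth.Agent.S4667.result,
        ker_genPt, Scheme.IdealSheafData.comap_bot]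
    rw [← hs₂, Over.comp_left, Scheme.Hom.ker_comp, hskb, Scheme.IdealSheafData.map_bot]
  refine ⟨⟨ObjectProperty.homMk l, ObjectProperty.homMk n, ObjectProperty.hom_ext _ ?_, ObjectProperty.hom_ext _ ?_⟩,
    ObjectProperty.hom_ext _ hl⟩
  · exact (cancel_mono i.hom).1 ((Category.assoc _ _ _).trans ((congrArg (l ≫ ·) hn).trans (hl.trans (Category.id_comp _).symm)))
  · exact (cancel_mono i'.hom).1 ((Category.assoc _ _ _).trans ((congrArg (n ≫ ·) hl).trans (hn.trans (Category.id_comp _).symm)))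

end Space

end Groth.Agent.AlgSpQ4
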