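import Groth.Agent.AlgSpQ4.ElemCover
import Groth.Agent.AlgSpOne.QaOpen
import Groth.Agent.AlgSpPts.OpenSub
import Groth.Agent.AlgSpLib.EtaleSmoothLocal
import Groth.Agent.AlgSpDec.LimDescentRep

/-!
# The induction principle along elementary distinguished squares
-/

set_option backward.isDefEq.respectTransparency false
set_option backward.isDefEq.respectTransparency.types false

universe u

open CategoryTheory Limits AlgebraicGeometry AlgSp Groth.Agent.AlgSpLib Groth.Agent.AlgSpPts Groth.Agent.AlgSpDec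

namespace Groth.Agent.AlgSpQ4

variable {S : Scheme.{u}}

/-- A morphism whose image lies in an open subspace factors through it. -/
theorem exists_factor_sub {X' X F : Sp S} (hX : IsAlgSpace X) (hX' : IsAlgSpace X') (hF : IsAlgSpace F)
    {j : X' ⟶ X} (hj : RepWith @IsOpenImmersion j) (f : F ⟶ X)
    (h : Set.range (Points.map f) ⊆ Set.range (Points.map j)) : ∃ g : F ⟶ X', g ≫ j = f := by
  have sq := IsPullback.of_hasPullback j f
  have : IsIso (pullback.snd j f) := isIso_of_openImm_surjective hF (repWith_of_isPullback sq hj) fun y => by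
    obtain ⟨x, hx⟩ := h ⟨y, rfl⟩
    obtain ⟨z, -, hz⟩ := exists_point_of_isPullback sq hx
    exact ⟨z, hz⟩
  exact ⟨inv (pullback.snd j f) ≫ pullback.fst j f, by rw [Category.assoc, pullback.condition, IsIso.inv_hom_id_assoc]⟩

theorem isPullback_of_comp_mono {F G H : Sp S} (h : F ⟶ G) (i : G ⟶ H) [Mono i] :
    IsPullback h (𝟙 F) i (h ≫ i) :=
  ⟨⟨(Category.id_comp _).symm⟩, ⟨PullbackCone.IsLimit.mk _ (fun s => s.snd)
    (fun s => (cancel_mono i).1 (by rw [Category.assoc]; exact s.condition.symm))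
    (fun s => Category.comp_id _) (fun s m _ h₂ => by simpa using h₂)⟩⟩

theorem repWith_of_comp_mono {P : MorphismProperty Scheme.{u}} {F G H : Sp S} (h : F ⟶ G) (i : G ⟶ H) [Mono i]
    (hp : RepWith P (h ≫ i)) : RepWith P h :=
  repWith_of_isPullback (isPullback_of_comp_mono h i).flip hp

theorem isEmbedding_map_openImm {X' X : Sp S} (hX : IsAlgSpace X) {j : X' ⟶ X} (hj : RepWith @IsOpenImmersion j) :
    Topology.IsEmbedding (Points.map j) := (isOpenEmbedding_map' hX hj).isEmbedding

theorem isQuasiCompactSp_of_range {X' X : Sp S} (hX : IsAlgSpace X) (hX' : IsAlgSpace X') {j : X' ⟶ X}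
    (hj : RepWith @IsOpenImmersion j) (h : IsCompact (Set.range (Points.map j))) : IsQuasiCompactSp X' := by
  refine (AlgSpPts.isQuasiCompactSp_iff hX').2 ⟨(isEmbedding_map_openImm hX hj).isCompact_iff.2 ?_⟩
  rwa [Set.image_univ]

/-- An affine scheme with an etale map covering the complement of an open subspace without double values
there makes an elementary distinguished square. -/
theorem isElemDistSq_of_noDbl {U W : Sp S} (hW : IsAlgSpace W) {j : U ⟶ W} (hj : RepWith @IsOpenImmersion j)
    {V : Over S} (b : (yon S).obj V ⟶ W) (hb : RepWith @Etale b)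
    (hcov : Set.range (Points.map j) ∪ Set.range (Points.ofPt b) = Set.univ)
    (hn : NoDbl b (Set.range (Points.map j))) : IsElemDistSq j b := by
  obtain ⟨T, i, hi, hir, hred⟩ := S10192.result ⟨W, hW⟩ _ (isOpen_range_openImm hW hj).isClosed_compl
  have hP := isAlgSpace_pullback T.property (IsAlgSpace.yon_obj V) hW i.hom b
  have sq := IsPullback.of_hasPullback i.hom b
  have hmono : Mono (pullback.fst i.hom b) := mono_of_yon_injective fun Z y y' e => by
    obtain ⟨z, hz⟩ := (yon S).map_surjective (y ≫ pullback.snd i.hom b)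
    obtain ⟨z', hz'⟩ := (yon S).map_surjective (y' ≫ pullback.snd i.hom b)
    have hzz : z = z' := hn Z z z' (by
      rw [hz, hz', Category.assoc, Category.assoc, ← pullback.condition, ← Category.assoc, e, Category.assoc])
      fun t => by
        rw [hz, Category.assoc, ← pullback.condition, ← Category.assoc, ← Points.map_ofPt]
        exact hir.le ⟨_, rfl⟩
    exact pullback.hom_ext e (by rw [← hz, ← hz', hzz])
  refine ⟨hj, AlgSpLib.isEtaleMor_of_repWith hb, T.obj, _, i.hom, pullback.fst i.hom b, pullback.snd i.hom b, ⟨hi, hir, hred⟩, sq, ?_⟩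
  refine isIso_of_mono_of_etale_surjective hP T.property _ (locP_of_repWith (repWith_of_isPullback sq.flip hb)) fun z => ?_
  obtain ⟨v, hv⟩ : Points.map i.hom z ∈ Set.range (Points.ofPt b) := by
    have h1 : Points.map i.hom z ∈ (Set.range (Points.map j))ᶜ := hir.le ⟨z, rfl⟩
    exact ((Set.ext_iff.1 hcov _).2 trivial).resolve_left h1
  obtain ⟨p, hp, -⟩ := exists_point_of_isPullback sq (x := z) (y := Points.ofScheme V v)
    (by rw [Points.map_ofPt, Category.id_comp, hv])
  exact ⟨p, hp⟩

/-- A space without points is an affine scheme. -/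
theorem exists_affine_iso_of_isEmpty {F : Sp S} (hF : IsAlgSpace F) (h : IsEmpty (Points F)) :
    ∃ T : Over S, IsAffine T.left ∧ Nonempty ((yon S).obj T ≅ F) := by
  obtain ⟨U, a, ha, has⟩ := hF.atlas
  have he : IsEmpty ↥U.left := ⟨fun u => h.false (Points.ofPt a u)⟩
  have : Mono a := mono_of_yon_injective fun T y y' _ => by
    obtain ⟨y, rfl⟩ := (yon S).map_surjective y
    have : IsEmpty ↥T.left := ⟨fun t => he.false (y.left t)⟩
    exact hom_ext_of_isEmpty _ _
  have : IsIso a := isIso_of_mono_of_etale_surjective (IsAlgSpace.yon_obj U) hF a (locP_of_repWith ha)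
    (surjective_map_of_repWith has)
  exact ⟨U, inferInstance, ⟨asIso a⟩⟩

variable {X : Space S}

/-- An open subspace as an object over `X`. -/
theorem exists_openObj (E : EtSpOver X) {Q : Set (Points E.obj.left.obj)} (hQ : IsOpen Q) :
    ∃ (E' : EtSpOver X) (j : E' ⟶ E), RepWith @IsOpenImmersion j.hom.left.hom ∧
      Set.range (Points.map j.hom.left.hom) = Q := by
  obtain ⟨F, j, hF, hj, hr⟩ := exists_open_subspace E.obj.left.property hQ
  let j' : (⟨F, hF⟩ : Space S) ⟶ E.obj.left := ObjectProperty.homMk j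
  refine ⟨⟨Over.mk (j' ≫ E.obj.hom), isEtaleMor_comp hF E.obj.left.property X.property
    (isEtaleMor_of_repWith_isOpenImmersion hj) E.property⟩,
    ObjectProperty.homMk (Over.homMk j' rfl), hj, hr⟩

/-- An etale chart as an object over `X`. -/
theorem exists_chartObj (E : EtSpOver X) {V : Over S} (b : (yon S).obj V ⟶ E.obj.left.obj) (hb : RepWith @Etale b) :
    ∃ (E' : EtSpOver X) (f : E' ⟶ E) (e : (yon S).obj V ≅ E'.obj.left.obj), e.hom ≫ f.hom.left.hom = b := by
  let b' : (⟨(yon S).obj V, IsAlgSpace.yon_obj V⟩ : Space S) ⟶ E.obj.left := ObjectProperty.homMk b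
  refine ⟨⟨Over.mk (b' ≫ E.obj.hom), isEtaleMor_comp (IsAlgSpace.yon_obj V) E.obj.left.property X.property
    (AlgSpLib.isEtaleMor_of_repWith hb) E.property⟩, ObjectProperty.homMk (Over.homMk b' rfl), Iso.refl _, ?_⟩
  exact Category.id_comp _

theorem IsElemDistSq.congr_right {U V V' W : Sp S} {j : U ⟶ W} {f : V ⟶ W} {f' : V' ⟶ W} (e : V ≅ V')
    (he : e.hom ≫ f' = f) (hV : IsAlgSpace V) (hV' : IsAlgSpace V') (hW : IsAlgSpace W)
    (h : IsElemDistSq j f) : IsElemDistSq j f' := by
  obtain ⟨h1, h2, T, P, i, p₁, p₂, h3, h4, h5⟩ := h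
  refine ⟨h1, ?_, T, P, i, p₁, p₂ ≫ e.hom, h3, ?_, h5⟩
  · rw [← (Iso.inv_comp_eq e).2 he.symm]
    exact isEtaleMor_comp hV' hV hW (AlgSpLib.isEtaleMor_of_repWith
      (MorphismProperty.of_isIso (RepWith (S := S) @Etale) e.inv)) h2
  · exact h4.of_iso (Iso.refl _) (Iso.refl _) e (Iso.refl _) (by simp) (by simp) (by simp) (by simp [he])

/-- The corner of a square, as an object over `X`. -/
theorem exists_cornerObj {W U V : EtSpOver X} (j : U ⟶ W) (f : V ⟶ W) (hj : RepWith @IsOpenImmersion j.hom.left.hom) :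
    ∃ (UV : EtSpOver X) (p : UV ⟶ U) (q : UV ⟶ V),
      IsPullback p.hom.left.hom q.hom.left.hom j.hom.left.hom f.hom.left.hom ∧
        RepWith @IsOpenImmersion q.hom.left.hom := by
  let P : Space S := ⟨pullback j.hom.left.hom f.hom.left.hom,
    isAlgSpace_pullback U.obj.left.property V.obj.left.property W.obj.left.property _ _⟩
  have sq := IsPullback.of_hasPullback j.hom.left.hom f.hom.left.hom
  have hq : RepWith @IsOpenImmersion (pullback.snd j.hom.left.hom f.hom.left.hom) := repWith_of_isPullback sq hj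
  let p₀ : P ⟶ U.obj.left := ObjectProperty.homMk (pullback.fst _ _)
  let q₀ : P ⟶ V.obj.left := ObjectProperty.homMk (pullback.snd _ _)
  let E : EtSpOver X := ⟨Over.mk (q₀ ≫ V.obj.hom), isEtaleMor_comp P.property V.obj.left.property X.property
    (isEtaleMor_of_repWith_isOpenImmersion hq) V.property⟩
  refine ⟨E, ObjectProperty.homMk (Over.homMk p₀ ?_), ObjectProperty.homMk (Over.homMk q₀ rfl), sq, hq⟩
  change p₀ ≫ U.obj.hom = q₀ ≫ V.obj.hom
  rw [← Over.w j.hom, ← Over.w f.hom, ← Category.assoc, ← Category.assoc]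
  congr 1
  exact ObjectProperty.hom_ext _ pullback.condition

section Principle

variable {B P : EtSpOver X → Prop}
  (h1 : ∀ W, B W → IsQuasiCompactSp W.obj.left.obj ∧ IsQuasiSeparatedSp W.obj.left.obj)
  (h2 : ∀ (W U : EtSpOver X) (j : U ⟶ W), B W → RepWith @IsOpenImmersion j.hom.left.hom →
    IsQuasiCompactSp U.obj.left.obj → B U)
  (h3 : ∀ (V : EtSpOver X) (T : Over S), IsAffine T.left → Nonempty ((yon S).obj T ≅ V.obj.left.obj) → B V ∧ P V)
  (h4 : ∀ (W U V UV : EtSpOver X) (j : U ⟶ W) (f : V ⟶ W) (p : UV ⟶ U) (q : UV ⟶ V),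
    B W → IsQuasiCompactSp U.obj.left.obj →
    (∃ T : Over S, IsAffine T.left ∧ Nonempty ((yon S).obj T ≅ V.obj.left.obj)) →
    IsElemDistSq j.hom.left.hom f.hom.left.hom →
    IsPullback p.hom.left.hom q.hom.left.hom j.hom.left.hom f.hom.left.hom →
    P U → P V → P UV → P W)

include h2 h3 h4 in
/-- One step: `W` is covered by an open piece and an affine chart. -/
theorem step_of_corner [QuasiSeparatedSpace ↥S] {W U : EtSpOver X} (hW : B W)
    (hWqs : IsQuasiSeparatedSp W.obj.left.obj) (j : U ⟶ W)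
    (hj : RepWith @IsOpenImmersion j.hom.left.hom) (hU : IsQuasiCompactSp U.obj.left.obj) {A : Over S} [IsAffine A.left]
    (b : (yon S).obj A ⟶ W.obj.left.obj) (hb : RepWith @Etale b)
    (hcov : Set.range (Points.map j.hom.left.hom) ∪ Set.range (Points.ofPt b) = Set.univ)
    (hn : NoDbl b (Set.range (Points.map j.hom.left.hom))) (hPU : P U)
    (hUV : ∀ (UV : EtSpOver X) (q : UV.obj.left.obj ⟶ (yon S).obj A), B UV → RepWith @IsOpenImmersion q →
      Set.range (Points.map q) = Points.map b ⁻¹' Set.range (Points.map j.hom.left.hom) → P UV) :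
    P W := by
  obtain ⟨V, f, e, he⟩ := exists_chartObj W b hb
  obtain ⟨hBV, hPV⟩ := h3 V A inferInstance ⟨e⟩
  obtain ⟨UV, p, q, sq, hq⟩ := exists_cornerObj j f hj
  have hAq : IsQuasiCompactSp ((yon S).obj A) := (isQuasiCompactSp_yon_iff A).2 inferInstance
  have sq' : IsPullback p.hom.left.hom (q.hom.left.hom ≫ e.inv) j.hom.left.hom b :=
    sq.of_iso (Iso.refl _) (Iso.refl _) e.symm (Iso.refl _) (by simp) (by simp) (by simp)
      (by simp only [Iso.refl_hom, Category.comp_id, Iso.symm_hom, ← he, Iso.inv_hom_id_assoc])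
  have hUVq : IsQuasiCompactSp UV.obj.left.obj :=
    isQuasiCompactMor_of_qc_qs (IsAlgSpace.yon_obj A) W.obj.left.property hAq hWqs b U.obj.left.property hU
      j.hom.left.hom _ _ sq'.flip
  refine h4 W U V UV j f p q hW hU ⟨A, inferInstance, ⟨e⟩⟩ ?_ sq hPU hPV (hUV UV (q.hom.left.hom ≫ e.inv)
    (h2 V UV q hBV hq hUVq) (repWith_of_isPullback sq' hj) (range_map_snd_of_isPullback sq'))
  exact IsElemDistSq.congr_right e he (IsAlgSpace.yon_obj A) V.obj.left.property W.obj.left.property
    (isElemDistSq_of_noDbl W.obj.left.property hj b hb hcov hn)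

include h1 h2 h3 h4 in
/-- Open subspaces of affine schemes covered by finitely many basic opens. -/
theorem of_basicOpens [QuasiSeparatedSpace ↥S] (T : Over S) [IsAffine T.left] :
    ∀ (m : ℕ) (g : Fin m → Γ(T.left, ⊤)) (W : EtSpOver X) (i : W.obj.left.obj ⟶ (yon S).obj T), B W →
      RepWith @IsOpenImmersion i →
      Set.range (Points.map i) = ⋃ k, Points.schemeHomeo T '' (T.left.basicOpen (g k) : Set ↥T.left) → P W := by
  intro m
  induction m with
  | zero =>
    intro g W i _ _ hr
    have : IsEmpty (Points W.obj.left.obj) := ⟨fun w => by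
      obtain ⟨k, -⟩ := Set.mem_iUnion.1 (hr.le ⟨w, rfl⟩)
      exact k.elim0⟩
    obtain ⟨A, hA, hA'⟩ := exists_affine_iso_of_isEmpty W.obj.left.property this
    exact (h3 W A hA hA').2
  | succ m ih =>
    intro g W i hW hi hr
    have : Mono i := mono_of_openImm hi
    let O : T.left.Opens := T.left.basicOpen (g (Fin.last m))
    let A : Over S := Over.mk (O.ι ≫ T.hom)
    let ι : A ⟶ T := Over.homMk O.ι rfl
    have : IsAffine A.left := (isAffineOpen_top T.left).basicOpen (g (Fin.last m))
    have hι : RepWith @IsOpenImmersion ((yon S).map ι) :=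
      (repWith_yon_map_iff _ _).2 (inferInstanceAs (IsOpenImmersion O.ι))
    have hιr : Set.range (Points.map ((yon S).map ι)) = Points.schemeHomeo T '' (O : Set ↥T.left) := by
      refine Set.Subset.antisymm ?_ ?_
      · rintro _ ⟨a, rfl⟩
        obtain ⟨a, rfl⟩ := (Points.schemeHomeo A).surjective a
        exact ⟨ι.left a, (a : O.toScheme).2, (Points.map_yon_map_apply ι a).symm⟩
      · rintro _ ⟨t, ht, rfl⟩
        exact ⟨Points.schemeHomeo A (⟨t, ht⟩ : O.toScheme), Points.map_yon_map_apply ι _⟩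
    obtain ⟨b, hb⟩ := exists_factor_sub (IsAlgSpace.yon_obj T) W.obj.left.property (IsAlgSpace.yon_obj A) hi
      ((yon S).map ι) (by rw [hιr, hr]; exact Set.subset_iUnion (fun k => Points.schemeHomeo T '' (T.left.basicOpen (g k) : Set ↥T.left)) _)
    have hbo : RepWith @IsOpenImmersion b := repWith_of_comp_mono b i (hb ▸ hι)
    have : Mono b := mono_of_openImm hbo
    let Q : Set (Points ((yon S).obj T)) :=
      ⋃ k : Fin m, Points.schemeHomeo T '' (T.left.basicOpen (g k.castSucc) : Set ↥T.left)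
    have hQo : IsOpen Q := isOpen_iUnion fun k => (Points.schemeHomeo T).isOpenMap _ (T.left.basicOpen _).2
    have hQc : IsCompact Q := isCompact_iUnion fun k =>
      (((isAffineOpen_top T.left).basicOpen _).isCompact).image (Points.schemeHomeo T).continuous
    obtain ⟨U, j, hj, hjr⟩ := exists_openObj W (hQo.preimage (Points.continuous_map i))
    have hUi : Set.range (Points.map (j.hom.left.hom ≫ i)) = Q := by
      rw [show Points.map (j.hom.left.hom ≫ i) = Points.map i ∘ Points.map j.hom.left.hom from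
        funext (Points.map_comp _ _), Set.range_comp, hjr, Set.image_preimage_eq_inter_range, Set.inter_eq_left, hr]
      exact Set.iUnion_subset fun k => Set.subset_iUnion (fun k => Points.schemeHomeo T '' (T.left.basicOpen (g k) : Set ↥T.left)) k.castSucc
    have hUqc : IsQuasiCompactSp U.obj.left.obj :=
      isQuasiCompactSp_of_range (IsAlgSpace.yon_obj T) U.obj.left.property (repWith_comp hj hi) (hUi ▸ hQc)
    refine step_of_corner h2 h3 h4 hW (h1 W hW).2 j hj hUqc b
      (repWith_mono (fun _ _ f (_ : IsOpenImmersion f) => inferInstanceAs (Etale f)) _ hbo) ?_ (noDbl_of_mono b _)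
      (ih _ U (j.hom.left.hom ≫ i) (h2 W U j hW hj hUqc) (repWith_comp hj hi) hUi) fun UV q hBUV hq hqr => ?_
    · refine Set.eq_univ_of_forall fun w => ?_
      obtain ⟨k, hk⟩ := Set.mem_iUnion.1 (hr.le ⟨w, rfl⟩)
      rcases Fin.eq_castSucc_or_eq_last k with ⟨k, rfl⟩ | rfl
      · exact .inl (hjr.ge (Set.mem_iUnion.2 ⟨k, hk⟩))
      · obtain ⟨a, ha⟩ := hιr.ge hk
        obtain ⟨a, rfl⟩ := (Points.schemeHomeo A).surjective a
        refine .inr ⟨a, (isEmbedding_map_openImm (IsAlgSpace.yon_obj T) hi).injective ?_⟩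
        rw [Points.map_ofPt, hb, ← ha]
        change _ = Points.map ((yon S).map ι) (Points.ofPt (𝟙 _) a)
        rw [Points.map_ofPt, Category.id_comp]
    refine ih (fun k => g k.castSucc * g (Fin.last m)) UV (q ≫ (yon S).map ι) hBUV (repWith_comp hq hι) ?_
    rw [show Points.map (q ≫ (yon S).map ι) = Points.map ((yon S).map ι) ∘ Points.map q from
      funext (Points.map_comp _ _), Set.range_comp, hqr, hjr, ← Set.preimage_comp,
      show Points.map i ∘ Points.map b = Points.map ((yon S).map ι) from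
        funext fun z => by rw [Function.comp_apply, ← Points.map_comp, hb],
      Set.image_preimage_eq_inter_range, hιr, Set.iUnion_inter]
    refine Set.iUnion_congr fun k => ?_
    rw [← Set.image_inter (Points.schemeHomeo T).injective, Scheme.basicOpen_mul]
    rfl

include h1 h2 h3 h4 in
/-- The induction principle. -/
theorem induction_principle [QuasiSeparatedSpace ↥S] (W : EtSpOver X) (hW : B W) : P W := by
  obtain ⟨hWc, hWs⟩ := h1 W hW
  have hWA := W.obj.left.property
  have key := points_induction hWA hWc hWs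
    (fun Q => ∀ (U : EtSpOver X) (j : U ⟶ W), RepWith @IsOpenImmersion j.hom.left.hom →
      Set.range (Points.map j.hom.left.hom) = Q → P U) ∅ isOpen_empty isCompact_empty ?_ ?_
  · exact key W (𝟙 W) (repWith_of_isIso _ (𝟙 W.obj.left.obj)) (Set.range_eq_univ.2 fun w => ⟨w, Points.map_id w⟩)
  · intro U j _ hr
    have : IsEmpty (Points U.obj.left.obj) := ⟨fun u => hr.le ⟨u, rfl⟩⟩
    obtain ⟨A, hA, hA'⟩ := exists_affine_iso_of_isEmpty U.obj.left.property this
    exact (h3 U A hA hA').2
  intro Q₁ Q₂ V b hQo hQc _ hV hb hQ₂ hn ih U j hj hjr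
  have : IsAffine V.left := hV
  have := mono_of_openImm hj
  have hbr : Set.range (Points.ofPt b) ⊆ Q₂ := hQ₂ ▸ Set.subset_union_right
  obtain ⟨b', hb'⟩ := exists_factor_sub hWA U.obj.left.property (IsAlgSpace.yon_obj V) hj b (by
    rw [hjr, AlgSpOne.QaOpen.range_map_yon]; exact hbr)
  have hUc : IsQuasiCompactSp U.obj.left.obj := by
    refine isQuasiCompactSp_of_range hWA U.obj.left.property hj ?_
    rw [hjr, hQ₂]
    exact hQc.union (isCompact_range (Points.continuous_ofPt b))
  have hBU := h2 W U j hW hj hUc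
  obtain ⟨U₁, j₁, hj₁, hj₁r⟩ := exists_openObj U (hQo.preimage (Points.continuous_map j.hom.left.hom))
  have hr₁ : Set.range (Points.map (j₁ ≫ j).hom.left.hom) = Q₁ := by
    change Set.range (Points.map (j₁.hom.left.hom ≫ j.hom.left.hom)) = Q₁
    rw [show Points.map (j₁.hom.left.hom ≫ j.hom.left.hom) = Points.map j.hom.left.hom ∘ Points.map j₁.hom.left.hom from
      funext (Points.map_comp _ _), Set.range_comp, hj₁r, Set.image_preimage_eq_inter_range, Set.inter_eq_left, hjr, hQ₂]
    exact Set.subset_union_left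
  have hj₁c : RepWith @IsOpenImmersion (j₁ ≫ j).hom.left.hom := repWith_comp hj₁ hj
  have hU₁c : IsQuasiCompactSp U₁.obj.left.obj :=
    isQuasiCompactSp_of_range hWA U₁.obj.left.property hj₁c (hr₁.symm ▸ hQc)
  refine step_of_corner h2 h3 h4 hBU (h1 U hBU).2 j₁ hj₁ hU₁c b' (repWith_of_comp_mono b' _ (hb'.symm ▸ hb)) ?_ ?_
    (ih U₁ (j₁ ≫ j) hj₁c hr₁) fun UV q hBUV hq _ => ?_
  · refine Set.eq_univ_of_forall fun u => ?_
    rcases hQ₂.le (hjr.le ⟨u, rfl⟩) with h | ⟨v, hv⟩
    · exact .inl (hj₁r.ge h)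
    · exact .inr ⟨v, (isEmbedding_map_openImm hWA hj).injective (by rw [Points.map_ofPt, hb', hv])⟩
  · intro T y y' e hy
    refine hn T y y' (by rw [← hb', ← Category.assoc, e, Category.assoc]) fun t ht => hy t (hj₁r.ge ?_)
    show Points.map j.hom.left.hom _ ∈ Q₁
    rwa [Points.map_ofPt, Category.assoc, hb']
  · have hc : IsCompact (Set.range (Points.map q)) := by
      have := (AlgSpPts.isQuasiCompactSp_iff UV.obj.left.property).1 (h1 UV hBUV).1
      exact isCompact_range (Points.continuous_map q)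
    let O : Set ↥V.left := Points.schemeHomeo V ⁻¹' Set.range (Points.map q)
    have hOo : IsOpen O := (isOpen_range_openImm (IsAlgSpace.yon_obj V) hq).preimage (Points.schemeHomeo V).continuous
    have hOc : IsCompact O := (Points.schemeHomeo V).isCompact_preimage.2 hc
    obtain ⟨s, hs, hsO⟩ := (TopologicalSpace.Opens.IsBasis.isCompact_open_iff_eq_finite_iUnion
      (fun g : Γ(V.left, ⊤) => V.left.basicOpen g) (isBasis_basicOpen V.left)
      (fun g => ((isAffineOpen_top V.left).basicOpen g).isCompact) O).1 ⟨hOc, hOo⟩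
    have : Fintype s := hs.fintype
    let g : Fin (Fintype.card s) → Γ(V.left, ⊤) := fun k => ((Fintype.equivFin s).symm k).1
    refine of_basicOpens h1 h2 h3 h4 V _ g UV q hBUV hq ?_
    rw [← (Points.schemeHomeo V).image_preimage (Set.range (Points.map q)), show Points.schemeHomeo V ⁻¹' _ = O from rfl,
      hsO, Set.image_iUnion₂, Set.biUnion_eq_iUnion]
    exact (Equiv.iSup_congr (Fintype.equivFin s) fun k => by simp [g])

end Principle

end Groth.Agent.AlgSpQ4
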