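import Groth.Agent.AlgSpQ4.MVSite

/-!
# The Mayer-Vietoris sequence of `j_*` for an elementary distinguished square
-/

set_option backward.isDefEq.respectTransparency false
set_option backward.isDefEq.respectTransparency.types false

universe u

open CategoryTheory CategoryTheory.Limits AlgebraicGeometry Opposite AlgSp Groth.Agent.AlgSpLib Groth.Agent.AlgSpDec

namespace Groth.Agent.AlgSpQ4.MV

variable {S : Scheme.{u}} {X : Sp S}

/-- `W ↦ F(U ⨯ W)`. -/
noncomputable abbrev PR (U : EtOver X) (F : ModEt X) : ModEt X := (pushOnModEt U).obj ((resModEt U).obj F)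

/-- The unit is restriction along the second projection. -/
theorem unit_apply (U : EtOver X) (F : ModEt X) (W : EtOver X) (x : sectModEt F W) :
    ((resPushAdjEt U).unit.app F).val.app (op W) x = res F (prod.snd : U ⨯ W ⟶ W) x := by
  simp [resPushAdjEt, SheafOfModules.overPushforwardOverAdj, SheafOfModules.pushforwardPushforwardAdj]
  rfl

/-- The restriction map is restriction along `g ⨯ 𝟙`. -/
theorem pushRes_apply {U' U : EtOver X} (g : U' ⟶ U) (F : ModEt X) (W : EtOver X) (x : sectModEt (PR U F) W) :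
    ((pushResNatTrans g).app F).val.app (op W) x = res F (prod.map g (𝟙 W) : U' ⨯ W ⟶ U ⨯ W) x := by
  simp [pushResNatTrans]
  rfl

theorem PR_res (U : EtOver X) (F : ModEt X) {W W' : EtOver X} (h : W' ⟶ W) (x : sectModEt (PR U F) W) :
    res (PR U F) h x = res F (prod.map (𝟙 U) h : U ⨯ W' ⟶ U ⨯ W) x := rfl

theorem glue_ext₂ (F : ModEt X) {A B W : EtOver X} (f : A ⟶ W) (g : B ⟶ W)
    (hc : ∀ x : ↥W.obj.left.left, x ∈ Set.range f.hom.left.left ∨ x ∈ Set.range g.hom.left.left)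
    {s t : sectModEt F W} (h₁ : res F f s = res F f t) (h₂ : res F g s = res F g t) : s = t :=
  glue_ext F (fun i : Bool => bif i then A else B) (fun i => match i with
    | true => f
    | false => g) (fun x => (hc x).elim (fun h => ⟨true, h⟩) fun h => ⟨false, h⟩) fun i => match i with
    | true => h₁
    | false => h₂

theorem exists_glue₂ (F : ModEt X) {A B W : EtOver X} (f : A ⟶ W) (g : B ⟶ W)
    (hc : ∀ x : ↥W.obj.left.left, x ∈ Set.range f.hom.left.left ∨ x ∈ Set.range g.hom.left.left)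
    (a : sectModEt F A) (b : sectModEt F B)
    (haa : ∀ (T : EtOver X) (x y : T ⟶ A), x ≫ f = y ≫ f → res F x a = res F y a)
    (hab : ∀ (T : EtOver X) (x : T ⟶ A) (y : T ⟶ B), x ≫ f = y ≫ g → res F x a = res F y b)
    (hbb : ∀ (T : EtOver X) (x y : T ⟶ B), x ≫ g = y ≫ g → res F x b = res F y b) :
    ∃ z : sectModEt F W, res F f z = a ∧ res F g z = b := by
  obtain ⟨z, hz⟩ := exists_glue F (fun i : Bool => bif i then A else B) (fun i => match i with
    | true => f
    | false => g) (fun x => (hc x).elim (fun h => ⟨true, h⟩) fun h => ⟨false, h⟩) (fun i => match i with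
    | true => a
    | false => b) fun i j T x y e => by
    match i, j with
    | true, true => exact haa T x y e
    | true, false => exact hab T x y e
    | false, true => exact (hab T y x e.symm).symm
    | false, false => exact hbb T x y e
  exact ⟨z, hz true, hz false⟩

theorem mem_range_map_iff (U : EtOver X) (x : Points X) :
    x ∈ Set.range (Points.map U.obj.hom) ↔ x ∈ Set.range (Points.ofPt U.obj.hom) := by
  constructor
  · rintro ⟨z, rfl⟩
    obtain ⟨z, rfl⟩ := (Points.schemeHomeo U.obj.left).surjective z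
    exact ⟨z, ((Points.map_ofPt _ _ _).trans (by rw [Category.id_comp])).symm⟩
  · rintro ⟨z, rfl⟩
    exact ⟨Points.ofPt (𝟙 _) z, (Points.map_ofPt _ _ _).trans (by rw [Category.id_comp])⟩

theorem prodObj_mk {U V T : EtOver X} (a : T ⟶ U) (b : T ⟶ V) :
    ∃ l : T ⟶ EtOver.prodObj U V, l ≫ EtOver.prodFst U V = a ∧ l ≫ EtOver.prodSnd U V = b :=
  exists_prodObj_lift a b

/-- A section criterion for left exactness. -/
theorem exact_of_sections (T : ShortComplex (ModEt X)) (hi : ∀ W, Function.Injective (T.f.val.app (op W)))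
    (he : ∀ W s, T.g.val.app (op W) s = 0 → ∃ z, T.f.val.app (op W) z = s) : Mono T.f ∧ T.Exact := by
  have hm : Mono T.f := ⟨fun g h e => by
    ext ⟨W⟩ x
    exact hi W (congrArg (fun k => k.val.app (op W) x) e)⟩
  refine ⟨hm, T.exact_of_f_is_kernel (KernelFork.IsLimit.ofι' _ _ fun {A} k hk => ?_)⟩
  have hex : ∀ (W : (EtOver X)ᵒᵖ) (x : A.val.obj W), ∃ z : T.X₁.val.obj W,
      (T.f.val.app W).hom z = (k.val.app W).hom x := fun W x => by
    refine he W.unop _ ?_
    have e := congrArg (fun m : A ⟶ T.X₃ => (m.val.app W).hom x) hk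
    exact e
  choose z hz using hex
  have hi' : ∀ W, Function.Injective (T.f.val.app W).hom := fun W => hi W.unop
  have hadd : ∀ W x y, z W (x + y) = z W x + z W y := fun W x y => hi' W (by rw [hz, map_add, map_add, hz, hz])
  have hsmul : ∀ W r x, z W (r • x) = r • z W x := fun W r x => hi' W (by rw [hz, map_smul, map_smul, hz])
  let L : A ⟶ T.X₁ := ⟨{
    app := fun W => ModuleCat.ofHom ⟨⟨z W, hadd W⟩, hsmul W⟩
    naturality := fun {W W'} f => by
      ext x
      change z W' (A.val.map f x) = T.X₁.val.map f (z W x)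
      apply hi' W'
      rw [hz, PresheafOfModules.naturality_apply k.val f x]
      exact ((PresheafOfModules.naturality_apply T.f.val f (z W x)).trans
        (congrArg (fun t => T.X₂.val.map f t) (hz W x))).symm }⟩
  refine ⟨L, ?_⟩
  ext W x
  exact hz W x

theorem exact_of_sections' {A B C : ModEt X} (f : A ⟶ B) (g : B ⟶ C) (w : f ≫ g = 0)
    (hi : ∀ W, Function.Injective (f.val.app (op W)))
    (he : ∀ W s, g.val.app (op W) s = 0 → ∃ z, f.val.app (op W) z = s) : Mono f ∧ (ShortComplex.mk f g w).Exact :=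
  exact_of_sections (ShortComplex.mk f g w) hi he

theorem biprod_sect_ext {A B : ModEt X} {W : EtOver X} {s t : sectModEt (A ⊞ B) W}
    (h₁ : (biprod.fst : A ⊞ B ⟶ A).val.app (op W) s = (biprod.fst : A ⊞ B ⟶ A).val.app (op W) t)
    (h₂ : (biprod.snd : A ⊞ B ⟶ B).val.app (op W) s = (biprod.snd : A ⊞ B ⟶ B).val.app (op W) t) : s = t := by
  have key : ∀ r : sectModEt (A ⊞ B) W, r =
      (biprod.inl : A ⟶ A ⊞ B).val.app (op W) ((biprod.fst : A ⊞ B ⟶ A).val.app (op W) r) +
        (biprod.inr : B ⟶ A ⊞ B).val.app (op W) ((biprod.snd : A ⊞ B ⟶ B).val.app (op W) r) := fun r =>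
    (congrArg (fun k : A ⊞ B ⟶ A ⊞ B => k.val.app (op W) r) biprod.total).symm
  rw [key s, key t, h₁, h₂]

theorem biprod_sect_mk {A B : ModEt X} {W : EtOver X} (a : sectModEt A W) (b : sectModEt B W) :
    ∃ s : sectModEt (A ⊞ B) W, (biprod.fst : A ⊞ B ⟶ A).val.app (op W) s = a ∧
      (biprod.snd : A ⊞ B ⟶ B).val.app (op W) s = b := by
  refine ⟨(biprod.inl : A ⟶ A ⊞ B).val.app (op W) a + (biprod.inr : B ⟶ A ⊞ B).val.app (op W) b, ?_, ?_⟩
  · refine (map_add _ _ _).trans ?_
    have e₁ := congrArg (fun k : A ⟶ A => k.val.app (op W) a) (biprod.inl_fst (X := A) (Y := B))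
    have e₂ := congrArg (fun k : B ⟶ A => k.val.app (op W) b) (biprod.inr_fst (X := A) (Y := B))
    exact (congrArg₂ (· + ·) e₁ e₂).trans (add_zero a)
  · refine (map_add _ _ _).trans ?_
    have e₁ := congrArg (fun k : A ⟶ B => k.val.app (op W) a) (biprod.inl_snd (X := A) (Y := B))
    have e₂ := congrArg (fun k : B ⟶ B => k.val.app (op W) b) (biprod.inr_snd (X := A) (Y := B))
    exact (congrArg₂ (· + ·) e₁ e₂).trans (zero_add b)

theorem desc_apply {A B C : ModEt X} (f : A ⟶ C) (g : B ⟶ C) {W : EtOver X} (s : sectModEt (A ⊞ B) W) :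
    (biprod.desc f g).val.app (op W) s = f.val.app (op W) ((biprod.fst : A ⊞ B ⟶ A).val.app (op W) s) +
      g.val.app (op W) ((biprod.snd : A ⊞ B ⟶ B).val.app (op W) s) := by
  rw [show biprod.desc f g = (biprod.fst : A ⊞ B ⟶ A) ≫ f + biprod.snd ≫ g from biprod.hom_ext' _ _ (by simp) (by simp)]
  rfl

variable (U V : EtOver X) (F : ModEt X)

/-- The first map of the Mayer-Vietoris sequence. -/
noncomputable abbrev mvf : F ⟶ PR U F ⊞ PR V F :=
  biprod.lift ((resPushAdjEt U).unit.app F) ((resPushAdjEt V).unit.app F)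

/-- The second map of the Mayer-Vietoris sequence. -/
noncomputable abbrev mvg : PR U F ⊞ PR V F ⟶ PR (EtOver.prodObj U V) F :=
  biprod.desc ((pushResNatTrans (EtOver.prodFst U V)).app F) (-((pushResNatTrans (EtOver.prodSnd U V)).app F))

theorem mvg_apply {W : EtOver X} (s : sectModEt (PR U F ⊞ PR V F) W) :
    (mvg U V F).val.app (op W) s =
      res F (prod.map (EtOver.prodFst U V) (𝟙 W)) ((biprod.fst : PR U F ⊞ PR V F ⟶ _).val.app (op W) s) -
      res F (prod.map (EtOver.prodSnd U V) (𝟙 W)) ((biprod.snd : PR U F ⊞ PR V F ⟶ _).val.app (op W) s) := by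
  rw [sub_eq_add_neg]
  refine (desc_apply _ _ s).trans (congrArg₂ (· + ·) ?_ ?_)
  · exact pushRes_apply _ _ _ _
  · exact congrArg Neg.neg (pushRes_apply _ _ _ _)

theorem mv_zero : mvf U V F ≫ mvg U V F = 0 := by
  rw [biprod.lift_desc, Preadditive.comp_neg, ← sub_eq_add_neg, sub_eq_zero]
  ext ⟨W⟩ x
  change ((pushResNatTrans (EtOver.prodFst U V)).app F).val.app (op W) (((resPushAdjEt U).unit.app F).val.app (op W) x) =
    ((pushResNatTrans (EtOver.prodSnd U V)).app F).val.app (op W) (((resPushAdjEt V).unit.app F).val.app (op W) x)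
  rw [pushRes_apply, pushRes_apply, unit_apply, unit_apply, ← res_comp, ← res_comp, prod.map_snd, prod.map_snd]

variable {U V F}

theorem mvf_fst {W : EtOver X} (z : sectModEt F W) :
    (biprod.fst : PR U F ⊞ PR V F ⟶ _).val.app (op W) ((mvf U V F).val.app (op W) z) =
      res F (prod.snd : U ⨯ W ⟶ W) z :=
  (congrArg (fun k : F ⟶ PR U F => k.val.app (op W) z) (biprod.lift_fst _ _)).trans (unit_apply U F W z)

theorem mvf_snd {W : EtOver X} (z : sectModEt F W) :
    (biprod.snd : PR U F ⊞ PR V F ⟶ _).val.app (op W) ((mvf U V F).val.app (op W) z) =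
      res F (prod.snd : V ⨯ W ⟶ W) z :=
  (congrArg (fun k : F ⟶ PR V F => k.val.app (op W) z) (biprod.lift_snd _ _)).trans (unit_apply V F W z)

theorem cover_bool (hsq : IsElemDistSq U.obj.hom V.obj.hom) (W : EtOver X) (w : ↥W.obj.left.left) :
    ∃ i : Bool, w ∈ Set.range (prod.snd : (bif i then U else V) ⨯ W ⟶ W).hom.left.left := by
  rcases range_union_eq_univ hsq (Points.ofPt W.obj.hom w) with h | h
  exacts [⟨true, exists_prod_point U W w h⟩, ⟨false, exists_prod_point V W w h⟩]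

theorem mem_range_etOpenι (T : EtOver X) {O : T.obj.left.left.Opens} {t : ↥T.obj.left.left} (ht : t ∈ O) :
    t ∈ Set.range (etOpenι T O).hom.left.left := ⟨⟨t, ht⟩, rfl⟩

theorem cover₂ (hsq : IsElemDistSq U.obj.hom V.obj.hom) (W : EtOver X) (w : ↥W.obj.left.left) :
    w ∈ Set.range (prod.snd : U ⨯ W ⟶ W).hom.left.left ∨ w ∈ Set.range (prod.snd : V ⨯ W ⟶ W).hom.left.left :=
  (range_union_eq_univ hsq (Points.ofPt W.obj.hom w)).imp (exists_prod_point U W w) (exists_prod_point V W w)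

theorem mvf_injective (hsq : IsElemDistSq U.obj.hom V.obj.hom) (W : EtOver X) :
    Function.Injective ((mvf U V F).val.app (op W)) := by
  intro z z' e
  refine glue_ext₂ F (prod.snd : U ⨯ W ⟶ W) (prod.snd : V ⨯ W ⟶ W) (cover₂ hsq W) ?_ ?_
  · rw [← mvf_fst (U := U) (V := V) z, ← mvf_fst (U := U) (V := V) z', e]
  · rw [← mvf_snd (U := U) (V := V) z, ← mvf_snd (U := U) (V := V) z', e]

set_option maxHeartbeats 1000000 in
theorem mv_exists_preimage (hX : IsAlgSpace X) (hsq : IsElemDistSq U.obj.hom V.obj.hom) (W : EtOver X)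
    (s : sectModEt (PR U F ⊞ PR V F) W) (hs : (mvg U V F).val.app (op W) s = 0) :
    ∃ z : sectModEt F W, (mvf U V F).val.app (op W) z = s := by
  have hUi : RepWith @IsOpenImmersion U.obj.hom := hsq.1
  let a : sectModEt F (U ⨯ W) := (biprod.fst : PR U F ⊞ PR V F ⟶ _).val.app (op W) s
  let b : sectModEt F (V ⨯ W) := (biprod.snd : PR U F ⊞ PR V F ⟶ _).val.app (op W) s
  have hab : res F (prod.map (EtOver.prodFst U V) (𝟙 W)) a = res F (prod.map (EtOver.prodSnd U V) (𝟙 W)) b :=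
    sub_eq_zero.1 ((mvg_apply U V F s).symm.trans hs)
  have hUV : ∀ (T : EtOver X) (x : T ⟶ U ⨯ W) (y : T ⟶ V ⨯ W), x ≫ prod.snd = y ≫ prod.snd →
      res F x a = res F y b := by
    intro T x y e
    obtain ⟨l, hl₁, hl₂⟩ := exists_prodObj_lift (x ≫ prod.fst) (y ≫ prod.fst)
    have hx : prod.lift l (x ≫ prod.snd) ≫ prod.map (EtOver.prodFst U V) (𝟙 W) = x :=
      prod_hom_ext (by simp [hl₁]) (by simp)
    have hy : prod.lift l (x ≫ prod.snd) ≫ prod.map (EtOver.prodSnd U V) (𝟙 W) = y :=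
      prod_hom_ext (by simp [hl₂]) (by simp [e])
    calc res F x a = res F (prod.lift l (x ≫ prod.snd)) (res F (prod.map (EtOver.prodFst U V) (𝟙 W)) a) := by
          rw [← res_comp, hx]
      _ = res F y b := by rw [hab, ← res_comp, hy]
  have hVV : ∀ (T : EtOver X) (x y : T ⟶ V ⨯ W), x ≫ prod.snd = y ≫ prod.snd → res F x b = res F y b := by
    intro T x y e
    let Y : Option {O : T.obj.left.left.Opens // etOpenι T O ≫ x = etOpenι T O ≫ y} → EtOver X :=
      fun i => i.elim (U ⨯ T) fun O => etOpen T O.1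
    let g : ∀ i, Y i ⟶ T := fun i => match i with
      | none => prod.snd
      | some O => etOpenι T O.1
    refine glue_ext F Y g (fun t => ?_) fun i => ?_
    · by_cases h : Points.ofPt T.obj.hom t ∈ Set.range (Points.map U.obj.hom)
      · exact ⟨none, exists_prod_point U T t ((mem_range_map_iff U _).1 h)⟩
      · obtain ⟨O, ht, hO⟩ := exists_open_eq_V hX hsq (x ≫ prod.fst) (y ≫ prod.fst) t h
        have hO' : etOpenι T O ≫ x = etOpenι T O ≫ y :=
          prod_hom_ext (by simpa only [Category.assoc] using hO) (by simp only [Category.assoc, e])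
        exact ⟨some ⟨O, hO'⟩, mem_range_etOpenι T ht⟩
    · match i with
      | some O => rw [← res_comp, ← res_comp, O.2]
      | none =>
        rw [← res_comp, ← res_comp]
        have h1 := hUV _ (prod.lift prod.fst ((prod.snd ≫ x) ≫ prod.snd) : U ⨯ T ⟶ U ⨯ W) (prod.snd ≫ x) (by simp)
        have h2 := hUV _ (prod.lift prod.fst ((prod.snd ≫ x) ≫ prod.snd) : U ⨯ T ⟶ U ⨯ W) (prod.snd ≫ y)
          (by simp [e])
        exact h1.symm.trans h2
  obtain ⟨z, hz₁, hz₂⟩ := exists_glue₂ F (prod.snd : U ⨯ W ⟶ W) (prod.snd : V ⨯ W ⟶ W) (cover₂ hsq W) a b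
    (fun T x y e => by rw [prod_hom_ext (subsingleton_hom hUi _ _) e]) hUV hVV
  refine ⟨z, biprod_sect_ext (A := PR U F) (B := PR V F) ?_ ?_⟩
  · rw [mvf_fst]
    exact hz₁
  · rw [mvf_snd]
    exact hz₂

theorem mv_exact (hX : IsAlgSpace X) (hsq : IsElemDistSq U.obj.hom V.obj.hom) :
    Mono (mvf U V F) ∧ (ShortComplex.mk _ _ (mv_zero U V F)).Exact :=
  exact_of_sections' (mvf U V F) (mvg U V F) (mv_zero U V F) (mvf_injective hsq) (mv_exists_preimage hX hsq)

theorem prod_hom_ext' {A B T : EtOver X} {f g : T ⟶ A ⨯ B} (h₁ : f ≫ prod.fst = g ≫ prod.fst)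
    (h₂ : f ≫ prod.snd = g ≫ prod.snd) : f = g := Limits.prod.hom_ext h₁ h₂

set_option maxHeartbeats 1000000 in
/-- Local preimages over the open part. -/
theorem mvg_lift_U (hUi : RepWith @IsOpenImmersion U.obj.hom) {W' : EtOver X} (u : W' ⟶ U)
    (x' : sectModEt F (EtOver.prodObj U V ⨯ W')) :
    ∃ s : sectModEt (PR U F ⊞ PR V F) W', (mvg U V F).val.app (op _) s = x' := by
  obtain ⟨l, hl₁, hl₂⟩ := exists_prodObj_lift ((prod.snd : V ⨯ W' ⟶ _) ≫ u) prod.fst
  have hp : prod.map (EtOver.prodSnd U V) (𝟙 W') ≫ prod.lift l prod.snd = 𝟙 (EtOver.prodObj U V ⨯ W') :=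
    prod_hom_ext (prodObj_hom_ext (subsingleton_hom hUi _ _) (by simp [hl₂])) (by simp)
  obtain ⟨s, hs₁, hs₂⟩ := biprod_sect_mk (A := PR U F) (B := PR V F) (W := W') 0 (- res F (prod.lift l prod.snd) x')
  refine ⟨s, (mvg_apply U V F s).trans ?_⟩
  rw [hs₁, hs₂]
  refine (congrArg₂ (· - ·) (map_zero _) (map_neg _ _)).trans ?_
  rw [zero_sub, neg_neg, ← res_comp, hp, res_id]

set_option maxHeartbeats 1000000 in
/-- Local preimages over the etale part. -/
theorem mvg_lift_V (hX : IsAlgSpace X) (hsq : IsElemDistSq U.obj.hom V.obj.hom) {W' : EtOver X} (v : W' ⟶ V)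
    (x' : sectModEt F (EtOver.prodObj U V ⨯ W')) :
    ∃ s : sectModEt (PR U F ⊞ PR V F) W', (mvg U V F).val.app (op _) s = x' := by
  have hUi : RepWith @IsOpenImmersion U.obj.hom := hsq.1
  obtain ⟨l, hl₁, hl₂⟩ := exists_prodObj_lift (prod.fst : U ⨯ W' ⟶ U) ((prod.snd : U ⨯ W' ⟶ W') ≫ v)
  obtain ⟨q, hq₁, hq₂⟩ : ∃ q : EtOver.prodObj U V ⨯ W' ⟶ V ⨯ W',
      q ≫ prod.fst = prod.fst ≫ EtOver.prodSnd U V ∧ q ≫ prod.snd = prod.snd :=
    ⟨prod.map (EtOver.prodSnd U V) (𝟙 W'), prod.map_fst _ _, (prod.map_snd _ _).trans (Category.comp_id _)⟩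
  obtain ⟨d, hd₁, hd₂⟩ : ∃ d : W' ⟶ V ⨯ W', d ≫ prod.fst = v ∧ d ≫ prod.snd = 𝟙 W' :=
    ⟨prod.lift v (𝟙 W'), prod.lift_fst _ _, prod.lift_snd _ _⟩
  have hq : q = prod.map (EtOver.prodSnd U V) (𝟙 W') :=
    prod_hom_ext (hq₁.trans (prod.map_fst _ _).symm) (hq₂.trans ((prod.map_snd _ _).trans (Category.comp_id _)).symm)
  obtain ⟨a, ha⟩ : ∃ a : sectModEt F (U ⨯ W'), a = res F (prod.lift l prod.snd) x' := ⟨_, rfl⟩
  obtain ⟨y, hy'⟩ : ∃ y : sectModEt F (EtOver.prodObj U V ⨯ W'),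
      y = res F (prod.map (EtOver.prodFst U V) (𝟙 W')) a - x' := ⟨_, rfl⟩
  have hy : ∀ (T : EtOver X) (r : T ⟶ EtOver.prodObj U V ⨯ W') (r' : T ⟶ W'),
      r' ≫ d = r ≫ q → res F r y = 0 := by
    intro T r r' e
    have e₁ : r' ≫ v = r ≫ prod.fst ≫ EtOver.prodSnd U V := by
      rw [← hd₁, ← hq₁, ← Category.assoc, e, Category.assoc]
    have e₂ : r' = r ≫ prod.snd := by
      rw [← hq₂, ← Category.assoc, ← e, Category.assoc, hd₂, Category.comp_id]
    rw [hy', ha, map_sub, sub_eq_zero, ← res_comp, ← res_comp]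
    congr 2
    refine prod_hom_ext (prodObj_hom_ext ?_ ?_) (by simp)
    · simp [hl₁]
    · simp [hl₂, ← e₁, e₂]
  have hcov : ∀ t : ↥(V ⨯ W').obj.left.left,
      t ∈ Set.range d.hom.left.left ∨ t ∈ Set.range q.hom.left.left := by
    intro t
    by_cases h : Points.ofPt (V ⨯ W').obj.hom t ∈ Set.range (Points.map U.obj.hom)
    · obtain ⟨r, hr⟩ := exists_prod_point U (V ⨯ W') t ((mem_range_map_iff U _).1 h)
      obtain ⟨m, hm₁, hm₂⟩ := exists_prodObj_lift (prod.fst : U ⨯ (V ⨯ W') ⟶ U)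
        ((prod.snd : U ⨯ (V ⨯ W') ⟶ _) ≫ prod.fst)
      have e : prod.lift m ((prod.snd : U ⨯ (V ⨯ W') ⟶ _) ≫ prod.snd) ≫ q = prod.snd :=
        prod_hom_ext (by rw [Category.assoc, hq₁, prod.lift_fst_assoc, hm₂])
          (by rw [Category.assoc, hq₂, prod.lift_snd])
      exact Or.inr ⟨_, (congrArg (fun k : U ⨯ (V ⨯ W') ⟶ V ⨯ W' => k.hom.left.left r) e).trans hr⟩
    · obtain ⟨O, ht, hO⟩ := exists_open_eq_V hX hsq (prod.fst : V ⨯ W' ⟶ V) (prod.snd ≫ v) t h
      have e : (etOpenι (V ⨯ W') O ≫ prod.snd) ≫ d = etOpenι (V ⨯ W') O :=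
        prod_hom_ext (by rw [Category.assoc, Category.assoc, hd₁, ← hO])
          (by rw [Category.assoc, Category.assoc, hd₂, Category.comp_id])
      exact Or.inl ⟨_, congrArg (fun k : etOpen (V ⨯ W') O ⟶ V ⨯ W' => k.hom.left.left ⟨t, ht⟩) e⟩
  obtain ⟨b, -, hb'⟩ := exists_glue₂ F d q hcov 0 y
    (fun T x x' e => by
      have : x = x' := by
        have := congrArg (fun k => k ≫ (prod.snd : V ⨯ W' ⟶ W')) e
        simpa only [Category.assoc, hd₂, Category.comp_id] using this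
      rw [this])
    (fun T x x' e => (map_zero _).trans (hy T x' x e).symm)
    (fun T x x' e => by
      have e₁ := congrArg (fun k => k ≫ (prod.fst : V ⨯ W' ⟶ V)) e
      have e₂ := congrArg (fun k => k ≫ (prod.snd : V ⨯ W' ⟶ W')) e
      simp only [Category.assoc, hq₁, hq₂] at e₁ e₂
      have : x = x' := prod_hom_ext (prodObj_hom_ext (subsingleton_hom hUi _ _) (by simpa using e₁)) e₂
      rw [this])
  obtain ⟨s, hs₁, hs₂⟩ := biprod_sect_mk (A := PR U F) (B := PR V F) (W := W') a b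
  refine ⟨s, (mvg_apply U V F s).trans ?_⟩
  rw [hs₁, hs₂, ← hq]
  rw [hb', hy', sub_sub_cancel]

theorem mv_epi (hX : IsAlgSpace X) (hsq : IsElemDistSq U.obj.hom V.obj.hom) : Epi (mvg U V F) := by
  have : Sheaf.IsLocallySurjective ((SheafOfModules.toSheaf (OEtRing X)).map (mvg U V F)) := by
    constructor
    intro W x
    refine (etTop X).superset_covering ?_ (AlgSp.ofArrows_mem_etTop (fun i : Bool => (bif i then U else V) ⨯ W)
      (fun _ => prod.snd) (cover_bool hsq W))
    rw [Sieve.generate_le_iff]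
    rintro T f ⟨i⟩
    cases i
    · exact mvg_lift_V hX hsq prod.fst _
    · exact mvg_lift_U hsq.1 prod.fst _
  have := Sheaf.epi_of_isLocallySurjective ((SheafOfModules.toSheaf (OEtRing X)).map (mvg U V F))
  exact (SheafOfModules.toSheaf (OEtRing X)).epi_of_epi_map this

end Groth.Agent.AlgSpQ4.MV
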