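import Groth.Prelude.Def_AlgSpD
import Groth.Agent.TriCat.GrothInst

/-!
# Modules on the small etale site of an algebraic space have enough injectives
-/

set_option backward.isDefEq.respectTransparency false
set_option backward.isDefEq.respectTransparency.types false

universe w u

open CategoryTheory CategoryTheory.Limits Opposite

namespace Groth.Agent.AlgSpQ4

variable {C : Type (u + 1)} [Category.{u} C]

theorem isGrothendieckAbelian_presheafOfModules (O : Cᵒᵖ ⥤ RingCat.{u + 1}) :
    IsGrothendieckAbelian.{u + 1} (PresheafOfModules.{u + 1} O) := by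
  have h5 : AB5OfSize.{u + 1, u + 1} (PresheafOfModules.{u + 1} O) := ⟨fun J _ _ => by
    have : ReflectsFiniteLimits (PresheafOfModules.toPresheaf.{u + 1} O) :=
      ⟨fun _ _ _ => reflectsLimitsOfShape_of_reflectsIsomorphisms⟩
    exact HasExactColimitsOfShape.domain_of_functor J (PresheafOfModules.toPresheaf.{u + 1} O)⟩
  refine { ab5OfSize := h5, hasSeparator := ⟨⟨_, (isSeparator_sigma
    (fun X : C => (PresheafOfModules.free O).obj (uliftYoneda.{u + 1}.obj X))).2 ?_⟩⟩ }
  intro M N f₁ f₂ h
  ext ⟨X⟩ m
  let e : ((PresheafOfModules.free O).obj (uliftYoneda.{u + 1}.obj X) ⟶ M) ≃ M.obj (op X) :=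
    PresheafOfModules.freeHomEquiv.trans uliftYonedaEquiv
  obtain ⟨g, rfl⟩ := e.surjective m
  have := h _ ⟨X⟩ g
  exact congrArg (PresheafOfModules.freeHomEquiv.trans uliftYonedaEquiv) this

theorem isGrothendieckAbelian_sheafOfModules {J : GrothendieckTopology C} (R : Sheaf J RingCat.{u + 1})
    [HasSheafify J AddCommGrpCat.{u + 1}] [J.WEqualsLocallyBijective AddCommGrpCat.{u + 1}] :
    IsGrothendieckAbelian.{u + 1} (SheafOfModules.{u + 1} R) := by
  have := isGrothendieckAbelian_presheafOfModules R.obj
  exact {
    ab5OfSize := ⟨fun K _ _ => by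
      have : HasExactColimitsOfShape K (PresheafOfModules.{u + 1} R.obj) := inferInstance
      have : ((SheafOfModules.forget R ⋙ PresheafOfModules.restrictScalars (𝟙 R.obj))).Full := inferInstance
      exact (PresheafOfModules.sheafificationAdjunction (𝟙 R.obj)).hasExactColimitsOfShape K⟩
    hasSeparator := by
      let adj := PresheafOfModules.sheafificationAdjunction (𝟙 R.obj)
      refine ⟨⟨(PresheafOfModules.sheafification (𝟙 R.obj)).obj
        (separator (PresheafOfModules.{u + 1} R.obj)), ?_⟩⟩
      rw [isSeparator_def]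
      intro X Y f g h
      refine (SheafOfModules.forget R ⋙ PresheafOfModules.restrictScalars (𝟙 R.obj)).map_injective ?_
      refine (isSeparator_def _).1 (isSeparator_separator (PresheafOfModules.{u + 1} R.obj)) _ _ fun φ => ?_
      obtain ⟨ψ, rfl⟩ := (adj.homEquiv _ _).surjective φ
      rw [← Adjunction.homEquiv_naturality_right, ← Adjunction.homEquiv_naturality_right, h ψ] }

theorem enoughInjectives_modEt {S : AlgebraicGeometry.Scheme.{u}} (X : AlgSp.Sp S) :
    EnoughInjectives (AlgSp.ModEt X) := by
  have := isGrothendieckAbelian_sheafOfModules (AlgSp.OEtRing X)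
  infer_instance

end Groth.Agent.AlgSpQ4
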