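import Groth.Agent.AlgSpQ4.MV
import Groth.Agent.AlgSpQ4.ModInj

/-!
# The Mayer-Vietoris sequence of `j_!` for an elementary distinguished square
-/

set_option backward.isDefEq.respectTransparency false
set_option backward.isDefEq.respectTransparency.types false

universe u

open CategoryTheory CategoryTheory.Limits AlgebraicGeometry Opposite AlgSp

namespace Groth.Agent.AlgSpQ4.MV

variable {S : Scheme.{u}} {X : Sp S}

theorem homEquiv_counit (U : EtOver X) [(resModEt U).IsRightAdjoint] {F G : ModEt X} (k : F ⟶ G) :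
    (shriekResAdj U).homEquiv F G ((Adjunction.ofIsRightAdjoint (resModEt U)).counit.app F ≫ k) =
      k ≫ (resPushAdjEt U).unit.app G := by
  let A₁ := resPushAdjEt U
  let A₂ := Adjunction.ofIsRightAdjoint (resModEt U)
  have h : A₂.homEquiv ((resModEt U).obj F) G (A₂.counit.app F ≫ k) = (resModEt U).map k := by
    rw [Adjunction.homEquiv_unit, Functor.map_comp, ← Category.assoc, A₂.right_triangle_components F]
    exact Category.id_comp _
  rw [shriekResAdj, Adjunction.comp_homEquiv]
  change A₁.homEquiv _ _ (A₂.homEquiv _ _ (A₂.counit.app F ≫ k)) = _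
  rw [h, Adjunction.homEquiv_unit]
  exact (A₁.unit.naturality k).symm

theorem homEquiv_mate {U' U : EtOver X} (g : U' ⟶ U) [(resModEt U).IsRightAdjoint] [(resModEt U').IsRightAdjoint]
    {F G : ModEt X} (h : (shriekRes U).obj F ⟶ G) :
    (shriekResAdj U').homEquiv F G ((shriekResNatTrans g).app F ≫ h) =
      (shriekResAdj U).homEquiv F G h ≫ (pushResNatTrans g).app G := by
  have e := CategoryTheory.unit_conjugateEquiv (shriekResAdj U) (shriekResAdj U') (shriekResNatTrans g) F
  rw [show conjugateEquiv (shriekResAdj U) (shriekResAdj U') (shriekResNatTrans g) = pushResNatTrans g from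
    (conjugateEquiv (shriekResAdj U) (shriekResAdj U')).apply_symm_apply _] at e
  rw [Adjunction.homEquiv_unit, Adjunction.homEquiv_unit, Functor.map_comp, ← Category.assoc, ← e,
    Category.assoc, Category.assoc]
  exact congrArg (fun t => (shriekResAdj U).unit.app F ≫ t) ((pushResNatTrans g).naturality h).symm

theorem homEquiv_sub (U : EtOver X) [(resModEt U).IsRightAdjoint] {F G : ModEt X}
    (a b : (shriekRes U).obj F ⟶ G) :
    (shriekResAdj U).homEquiv F G (a - b) =
      (shriekResAdj U).homEquiv F G a - (shriekResAdj U).homEquiv F G b := by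
  simp only [Adjunction.homEquiv_unit, Functor.map_sub, Preadditive.comp_sub]

variable (U V : EtOver X) [(resModEt U).IsRightAdjoint] [(resModEt V).IsRightAdjoint]
  [(resModEt (EtOver.prodObj U V)).IsRightAdjoint] (F : ModEt X)

/-- The first map of the Mayer-Vietoris sequence of `j_!`. -/
noncomputable abbrev shf : (shriekRes (EtOver.prodObj U V)).obj F ⟶ (shriekRes U).obj F ⊞ (shriekRes V).obj F :=
  biprod.lift ((shriekResNatTrans (EtOver.prodFst U V)).app F) (-((shriekResNatTrans (EtOver.prodSnd U V)).app F))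

/-- The second map of the Mayer-Vietoris sequence of `j_!`. -/
noncomputable abbrev shg : (shriekRes U).obj F ⊞ (shriekRes V).obj F ⟶ F :=
  biprod.desc ((Adjunction.ofIsRightAdjoint (resModEt U)).counit.app F)
    ((Adjunction.ofIsRightAdjoint (resModEt V)).counit.app F)

theorem sh_zero : shf U V F ≫ shg U V F = 0 := by
  rw [biprod.lift_desc, Preadditive.neg_comp, ← sub_eq_add_neg, sub_eq_zero]
  apply ((shriekResAdj (EtOver.prodObj U V)).homEquiv F F).injective
  have e := mv_zero U V F
  rw [biprod.lift_desc, Preadditive.comp_neg, ← sub_eq_add_neg, sub_eq_zero] at e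
  rw [homEquiv_mate, homEquiv_mate]
  have hU : (shriekResAdj U).homEquiv F F ((Adjunction.ofIsRightAdjoint (resModEt U)).counit.app F) =
      (resPushAdjEt U).unit.app F :=
    (congrArg _ (Category.comp_id _).symm).trans ((homEquiv_counit U (𝟙 F)).trans (Category.id_comp _))
  have hV : (shriekResAdj V).homEquiv F F ((Adjunction.ofIsRightAdjoint (resModEt V)).counit.app F) =
      (resPushAdjEt V).unit.app F :=
    (congrArg _ (Category.comp_id _).symm).trans ((homEquiv_counit V (𝟙 F)).trans (Category.id_comp _))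
  rw [hU, hV]
  exact e

variable {U V F}

omit [(resModEt (EtOver.prodObj U V)).IsRightAdjoint] in
theorem sh_hom_ext (hX : IsAlgSpace X) (hsq : IsElemDistSq U.obj.hom V.obj.hom) {G : ModEt X} {k k' : F ⟶ G}
    (h : shg U V F ≫ k = shg U V F ≫ k') : k = k' := by
  have := (mv_exact (F := G) hX hsq).1
  rw [← cancel_mono (mvf U V G)]
  have e₁ := congrArg (fun t => biprod.inl ≫ t) h
  have e₂ := congrArg (fun t => biprod.inr ≫ t) h
  simp only [biprod.inl_desc_assoc] at e₁
  simp only [biprod.inr_desc_assoc] at e₂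
  apply biprod.hom_ext
  · rw [Category.assoc, Category.assoc, biprod.lift_fst, ← homEquiv_counit U k, ← homEquiv_counit U k', e₁]
  · rw [Category.assoc, Category.assoc, biprod.lift_snd, ← homEquiv_counit V k, ← homEquiv_counit V k', e₂]

theorem sh_exists_desc (hX : IsAlgSpace X) (hsq : IsElemDistSq U.obj.hom V.obj.hom) {G : ModEt X}
    (m : (shriekRes U).obj F ⊞ (shriekRes V).obj F ⟶ G) (hm : shf U V F ≫ m = 0) :
    ∃ k : F ⟶ G, shg U V F ≫ k = m := by
  have hmono := (mv_exact (F := G) hX hsq).1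
  have hex := (mv_exact (F := G) hX hsq).2
  obtain ⟨k₁, hk₁⟩ : ∃ k₁ : F ⟶ PR U G, k₁ = (shriekResAdj U).homEquiv F G (biprod.inl ≫ m) := ⟨_, rfl⟩
  obtain ⟨k₂, hk₂⟩ : ∃ k₂ : F ⟶ PR V G, k₂ = (shriekResAdj V).homEquiv F G (biprod.inr ≫ m) := ⟨_, rfl⟩
  have hk : biprod.lift k₁ k₂ ≫ mvg U V G = 0 := by
    rw [biprod.lift_desc, Preadditive.comp_neg, ← sub_eq_add_neg, sub_eq_zero]
    change biprod.lift _ _ ≫ m = 0 at hm
    rw [biprod.lift_eq, Preadditive.add_comp, Category.assoc, Category.assoc, Preadditive.neg_comp,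
      ← sub_eq_add_neg, sub_eq_zero] at hm
    have e := congrArg ((shriekResAdj (EtOver.prodObj U V)).homEquiv F G) hm
    rw [homEquiv_mate, homEquiv_mate, ← hk₁, ← hk₂] at e
    exact e
  obtain ⟨k, hk'⟩ : ∃ k : F ⟶ G, k ≫ mvf U V G = biprod.lift k₁ k₂ :=
    ⟨hex.lift (biprod.lift k₁ k₂) hk, hex.lift_f _ hk⟩
  refine ⟨k, biprod.hom_ext' _ _ ?_ ?_⟩
  · rw [biprod.inl_desc_assoc]
    apply ((shriekResAdj U).homEquiv F G).injective
    rw [homEquiv_counit, ← hk₁]
    have e := congrArg (fun t => t ≫ biprod.fst) hk'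
    simp only [Category.assoc, biprod.lift_fst] at e
    exact e
  · rw [biprod.inr_desc_assoc]
    apply ((shriekResAdj V).homEquiv F G).injective
    rw [homEquiv_counit, ← hk₂]
    have e := congrArg (fun t => t ≫ biprod.snd) hk'
    simp only [Category.assoc, biprod.lift_snd] at e
    exact e

theorem sh_mono (hX : IsAlgSpace X) (hsq : IsElemDistSq U.obj.hom V.obj.hom) : Mono (shf U V F) := by
  have := enoughInjectives_modEt X
  let G := Injective.under ((shriekRes (EtOver.prodObj U V)).obj F)
  let ι : (shriekRes (EtOver.prodObj U V)).obj F ⟶ G := Injective.ι _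
  have hmono := (mv_exact (F := G) hX hsq).1
  have hepi := mv_epi (F := G) hX hsq
  have hse : (ShortComplex.mk _ _ (mv_zero U V G)).ShortExact :=
    { exact := (mv_exact (F := G) hX hsq).2, mono_f := hmono, epi_g := hepi }
  let sp := hse.splittingOfInjective
  obtain ⟨k, hk⟩ : ∃ k : F ⟶ PR U G ⊞ PR V G,
      k ≫ mvg U V G = (shriekResAdj (EtOver.prodObj U V)).homEquiv F G ι :=
    ⟨(shriekResAdj (EtOver.prodObj U V)).homEquiv F G ι ≫ sp.s, by
      rw [Category.assoc, sp.s_g]; exact Category.comp_id _⟩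
  obtain ⟨m₁, hm₁⟩ := ((shriekResAdj U).homEquiv F G).surjective (k ≫ biprod.fst)
  obtain ⟨m₂, hm₂⟩ := ((shriekResAdj V).homEquiv F G).surjective (k ≫ biprod.snd)
  have e : shf U V F ≫ biprod.desc m₁ m₂ = ι := by
    rw [biprod.lift_desc, Preadditive.neg_comp, ← sub_eq_add_neg]
    apply ((shriekResAdj (EtOver.prodObj U V)).homEquiv F G).injective
    rw [homEquiv_sub, homEquiv_mate, homEquiv_mate, hm₁, hm₂, ← hk,
      show k = biprod.lift (k ≫ biprod.fst) (k ≫ biprod.snd) from biprod.hom_ext _ _ (by simp) (by simp),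
      biprod.lift_desc, Preadditive.comp_neg, ← sub_eq_add_neg]
    simp
  exact mono_of_mono_fac e

theorem sh_shortExact (hX : IsAlgSpace X) (hsq : IsElemDistSq U.obj.hom V.obj.hom) :
    (ShortComplex.mk _ _ (sh_zero U V F)).ShortExact where
  exact := by
    have : Epi (shg U V F) := ⟨fun k k' h => sh_hom_ext hX hsq h⟩
    refine ShortComplex.exact_of_g_is_cokernel _ (CokernelCofork.IsColimit.ofπ' _ _ fun {G} m hm => ?_)
    exact ⟨(sh_exists_desc hX hsq m hm).choose, (sh_exists_desc hX hsq m hm).choose_spec⟩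
  mono_f := sh_mono hX hsq
  epi_g := ⟨fun k k' h => sh_hom_ext hX hsq h⟩

end Groth.Agent.AlgSpQ4.MV
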