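import Groth.Agent.AlgSpQ4.Tuples
import Groth.Agent.AlgSpQ4.FieldPts
import Groth.Agent.AlgSpDec.EtSite
import Groth.Agent.AlgSpDec.LimOpen
import Groth.Agent.AlgSpDec.LqfScheme
import Groth.Agent.S10193
import Groth.Prelude.Def_W4SpPerfMV

/-!
# The small etale site near an elementary distinguished square
-/

set_option backward.isDefEq.respectTransparency false
set_option backward.isDefEq.respectTransparency.types false

universe u

open CategoryTheory CategoryTheory.Limits AlgebraicGeometry Opposite AlgSp Groth.Agent.AlgSpLib Groth.Agent.AlgSpDec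

namespace Groth.Agent.AlgSpQ4.MV

variable {S : Scheme.{u}} {X : Sp S}

/-- Restriction of sections. -/
noncomputable def res (F : ModEt X) {W W' : EtOver X} (g : W' ⟶ W) : sectModEt F W →+ sectModEt F W' :=
  (F.val.presheaf.map g.op).hom

theorem res_eq (F : ModEt X) {W W' : EtOver X} (g : W' ⟶ W) (s : sectModEt F W) :
    res F g s = F.val.map g.op s := rfl

theorem res_comp (F : ModEt X) {W W' W'' : EtOver X} (g : W'' ⟶ W') (h : W' ⟶ W) (s : sectModEt F W) :
    res F (g ≫ h) s = res F g (res F h s) := by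
  unfold res
  rw [op_comp, Functor.map_comp]
  rfl

theorem res_id (F : ModEt X) {W : EtOver X} (s : sectModEt F W) : res F (𝟙 W) s = s := by
  unfold res
  rw [op_id, F.val.presheaf.map_id]
  rfl

/-- Sections glue along coverings. -/
theorem exists_glue (F : ModEt X) {W : EtOver X} {ι : Type*} (Y : ι → EtOver X) (g : ∀ i, Y i ⟶ W)
    (hc : ∀ x : ↥W.obj.left.left, ∃ i, x ∈ Set.range (g i).hom.left.left) (s : ∀ i, sectModEt F (Y i))
    (h : ∀ (i j : ι) (T : EtOver X) (a : T ⟶ Y i) (b : T ⟶ Y j), a ≫ g i = b ≫ g j → res F a (s i) = res F b (s j)) :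
    ∃ z : sectModEt F W, ∀ i, res F (g i) z = s i := by
  have hsh : Presieve.IsSheaf (etTop X) (F.val.presheaf ⋙ CategoryTheory.forget AddCommGrpCat) :=
    (isSheaf_iff_isSheaf_of_type _ _).1
      ((Presheaf.isSheaf_iff_isSheaf_forget _ _ (CategoryTheory.forget AddCommGrpCat)).1 F.isSheaf)
  have hs := (Presieve.isSheafFor_iff_generate (Presieve.ofArrows Y g)).2 (hsh _ (AlgSp.ofArrows_mem_etTop Y g hc))
  obtain ⟨z, hz, -⟩ := (Presieve.isSheafFor_arrows_iff _ _).1 hs s fun i j T a b e => h i j T a b e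
  exact ⟨z, hz⟩

theorem glue_ext (F : ModEt X) {W : EtOver X} {ι : Type*} (Y : ι → EtOver X) (g : ∀ i, Y i ⟶ W)
    (hc : ∀ x : ↥W.obj.left.left, ∃ i, x ∈ Set.range (g i).hom.left.left) {s t : sectModEt F W}
    (h : ∀ i, res F (g i) s = res F (g i) t) : s = t := by
  have hsh : Presieve.IsSheaf (etTop X) (F.val.presheaf ⋙ CategoryTheory.forget AddCommGrpCat) :=
    (isSheaf_iff_isSheaf_of_type _ _).1
      ((Presheaf.isSheaf_iff_isSheaf_forget _ _ (CategoryTheory.forget AddCommGrpCat)).1 F.isSheaf)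
  have hs := (Presieve.isSheafFor_iff_generate (Presieve.ofArrows Y g)).2 (hsh _ (AlgSp.ofArrows_mem_etTop Y g hc))
  refine hs.isSeparatedFor.ext fun V f hf => ?_
  cases hf with
  | mk i => exact h i

theorem ofPt_hom {W W' : EtOver X} (f : W' ⟶ W) (w : ↥W'.obj.left.left) :
    Points.ofPt W'.obj.hom w = Points.ofPt W.obj.hom (f.hom.left.left w) := by
  rw [← ofPt_comp, EtOver.w f]

theorem prod_hom_ext {A B T : EtOver X} {f g : T ⟶ A ⨯ B} (h₁ : f ≫ prod.fst = g ≫ prod.fst)
    (h₂ : f ≫ prod.snd = g ≫ prod.snd) : f = g := Limits.prod.hom_ext h₁ h₂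

theorem prodObj_hom_ext {A B T : EtOver X} {f g : T ⟶ EtOver.prodObj A B}
    (h₁ : f ≫ EtOver.prodFst A B = g ≫ EtOver.prodFst A B)
    (h₂ : f ≫ EtOver.prodSnd A B = g ≫ EtOver.prodSnd A B) : f = g :=
  BinaryFan.IsLimit.hom_ext (EtOver.prodIsLimit A B) h₁ h₂

theorem exists_prodObj_lift {A B T : EtOver X} (a : T ⟶ A) (b : T ⟶ B) :
    ∃ l : T ⟶ EtOver.prodObj A B, l ≫ EtOver.prodFst A B = a ∧ l ≫ EtOver.prodSnd A B = b := by
  obtain ⟨l, h₁, h₂⟩ := BinaryFan.IsLimit.lift' (EtOver.prodIsLimit A B) a b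
  exact ⟨l, h₁, h₂⟩

/-- Points of a fibre product in the site. -/
theorem exists_prod_point (A W : EtOver X) (w : ↥W.obj.left.left)
    (h : Points.ofPt W.obj.hom w ∈ Set.range (Points.ofPt A.obj.hom)) :
    w ∈ Set.range (prod.snd : A ⨯ W ⟶ W).hom.left.left := by
  obtain ⟨a, ha⟩ := h
  obtain ⟨r, hr₁, hr₂⟩ := exists_ofPt_of_eq (W.property.rep.isPullback' A.obj.hom) ha.symm
  refine ⟨(prod.lift (EtOver.prodFst A W) (EtOver.prodSnd A W) : EtOver.prodObj A W ⟶ A ⨯ W).hom.left.left r, ?_⟩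
  have e := congrArg (fun k : EtOver.prodObj A W ⟶ W => k.hom.left.left r)
    (prod.lift_snd (EtOver.prodFst A W) (EtOver.prodSnd A W))
  exact e.trans hr₁

theorem exists_hom_of_range {U T : EtOver X} (hU : RepWith @IsOpenImmersion U.obj.hom)
    (h : ∀ t, Points.ofPt T.obj.hom t ∈ Set.range (Points.ofPt U.obj.hom)) : Nonempty (T ⟶ U) := by
  obtain ⟨a, ha⟩ := AlgSpDec.exists_factor_open hU T.obj.hom fun t => by
    obtain ⟨w, hw⟩ := h t
    exact ⟨Points.ofScheme U.obj.left w, by rw [Points.map_ofPt, Category.id_comp, hw]⟩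
  obtain ⟨a, rfl⟩ := (yon S).map_surjective a
  exact ⟨EtOver.homMk a ha⟩

theorem subsingleton_hom {U : EtOver X} (hU : RepWith @IsOpenImmersion U.obj.hom) {T : EtOver X} (a b : T ⟶ U) :
    a = b := by
  have := AlgSpDec.mono_of_openImm hU
  exact EtOver.hom_ext _ _ ((yon S).map_injective ((cancel_mono U.obj.hom).1 (by rw [EtOver.w a, EtOver.w b])))

/-- Outside the open part the etale part of an elementary distinguished square has no double values. -/
theorem eq_of_elemDistSq (hX : IsAlgSpace X) {U V : EtOver X} (hsq : IsElemDistSq U.obj.hom V.obj.hom)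
    {k : Type u} [Field k] {σ : Spec (CommRingCat.of k) ⟶ S} (y y' : fldPt σ ⟶ V.obj.left)
    (e : (yon S).map y ≫ V.obj.hom = (yon S).map y' ≫ V.obj.hom)
    (h : Points.ofPt ((yon S).map y ≫ V.obj.hom) (IsLocalRing.closedPoint k) ∉ Set.range (Points.map U.obj.hom)) :
    y = y' := by
  obtain ⟨-, -, T, P, i, p₁, p₂, ⟨hi, hir, -⟩, sq, hiso⟩ := hsq
  have hT : IsAlgSpace T := isAlgSpace_of_representable i hi.rep hX
  have hred : IsReducedSp ((yon S).obj (fldPt σ)) :=
    ⟨fldPt σ, 𝟙 _, repWith_id _ _, repWith_id _ _, inferInstanceAs (IsReduced (Spec (CommRingCat.of k)))⟩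
  obtain ⟨t, ht⟩ := (S10193.result (X := ⟨X, hX⟩) (Z := ⟨T, hT⟩) (Y := ⟨_, IsAlgSpace.yon_obj (fldPt σ)⟩)
    (ObjectProperty.homMk i) hi hred (ObjectProperty.homMk ((yon S).map y ≫ V.obj.hom))).2 (by
      rintro _ ⟨z, rfl⟩
      obtain ⟨z, rfl⟩ := (Points.schemeHomeo (fldPt σ)).surjective z
      change Points.map ((yon S).map y ≫ V.obj.hom) (Points.ofPt (𝟙 _) z) ∈ Set.range (Points.map i)
      rw [Points.map_ofPt, Category.id_comp, hir,
        show z = IsLocalRing.closedPoint k from Subsingleton.elim (α := PrimeSpectrum k) _ _]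
      exact h)
  have ht' : t.hom ≫ i = (yon S).map y ≫ V.obj.hom := congrArg (·.hom) ht
  have := hiso
  have e' : sq.lift t.hom ((yon S).map y) ht' = sq.lift t.hom ((yon S).map y') (ht'.trans e) := by
    rw [← cancel_mono p₁, sq.lift_fst, sq.lift_fst]
  have := congrArg (· ≫ p₂) e'
  simp only [sq.lift_snd] at this
  exact (yon S).map_injective this

theorem range_union_eq_univ {U V : EtOver X} (hsq : IsElemDistSq U.obj.hom V.obj.hom) (x : Points X) :
    x ∈ Set.range (Points.ofPt U.obj.hom) ∨ x ∈ Set.range (Points.ofPt V.obj.hom) := by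
  obtain ⟨-, -, T, P, i, p₁, p₂, ⟨hi, hir, -⟩, sq, hiso⟩ := hsq
  by_cases h : x ∈ Set.range (Points.map U.obj.hom)
  · obtain ⟨z, rfl⟩ := h
    obtain ⟨z, rfl⟩ := (Points.schemeHomeo U.obj.left).surjective z
    exact Or.inl ⟨z, ((Points.map_ofPt _ _ _).trans (by rw [Category.id_comp])).symm⟩
  · obtain ⟨t, rfl⟩ := hir.ge h
    have := hiso
    obtain ⟨z, hz⟩ := (Points.schemeHomeo V.obj.left).surjective (Points.map p₂ (Points.map (inv p₁) t))
    refine Or.inr ⟨z, ?_⟩
    have e : Points.map V.obj.hom (Points.map p₂ (Points.map (inv p₁) t)) = Points.map i t := by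
      rw [← Points.map_comp, ← Points.map_comp, ← sq.w, IsIso.inv_hom_id_assoc]
    rw [← hz] at e
    rw [← e]
    exact ((Points.map_ofPt _ _ _).trans (by rw [Category.id_comp])).symm

/-- Two maps to the etale part agree near every point which is not over the open part. -/
theorem exists_open_eq_V (hX : IsAlgSpace X) {U V : EtOver X} (hsq : IsElemDistSq U.obj.hom V.obj.hom) {T : EtOver X}
    (a b : T ⟶ V) (t : ↥T.obj.left.left) (ht : Points.ofPt T.obj.hom t ∉ Set.range (Points.map U.obj.hom)) :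
    ∃ O : T.obj.left.left.Opens, t ∈ O ∧ etOpenι T O ≫ a = etOpenι T O ≫ b := by
  have hV := V.property
  let sqR := hV.rep.isPullback' V.obj.hom
  obtain ⟨δ, hδ₁, hδ₂⟩ := exists_rel_lift sqR (𝟙 V.obj.left) (𝟙 V.obj.left) rfl
  obtain ⟨r, hr₁, hr₂⟩ := exists_rel_lift sqR a.hom.left b.hom.left (by rw [EtOver.w a, EtOver.w b])
  have : Etale δ.left := by
    have h1 : Etale (hV.rep.snd V.obj.hom).left := hV.property_snd _
    refine MorphismProperty.of_postcomp (W := @Etale) (W' := @Etale) δ.left (hV.rep.snd V.obj.hom).left h1 ?_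
    rw [← Over.comp_left, hδ₂]
    exact inferInstanceAs (Etale (𝟙 _))
  have : Mono δ := mono_of_mono_fac hδ₁
  have : Mono δ.left := (inferInstance : Mono ((Over.forget S).map δ))
  have hδo : IsOpenImmersion δ.left := IsOpenImmersion.of_flat_of_mono δ.left
  have hy : resι t ≫ a.hom.left = resι t ≫ b.hom.left := eq_of_elemDistSq hX hsq
    (k := T.obj.left.left.residueField t) _ _ (by rw [Functor.map_comp, Functor.map_comp, Category.assoc, Category.assoc,
      EtOver.w a, EtOver.w b]) (by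
      rw [Functor.map_comp, Category.assoc, EtOver.w a, ofPt_comp, resι_apply]; exact ht)
  refine ⟨r.left ⁻¹ᵁ δ.left.opensRange, ?_, ?_⟩
  · have e : (resι t ≫ a.hom.left) ≫ δ = resι t ≫ r := (yon S).map_injective (sqR.hom_ext
      (by rw [← Functor.map_comp, ← Functor.map_comp, Category.assoc, hδ₁, Category.comp_id, Category.assoc, hr₁])
      (by rw [← Functor.map_comp, ← Functor.map_comp, Category.assoc, hδ₂, Category.comp_id, Category.assoc, hr₂, hy]))
    refine ⟨(resι t ≫ a.hom.left).left (IsLocalRing.closedPoint (T.obj.left.left.residueField t)), ?_⟩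
    rw [← Scheme.Hom.comp_apply, ← Over.comp_left, e, Over.comp_left, Scheme.Hom.comp_apply, resι_apply]
  · let O := r.left ⁻¹ᵁ δ.left.opensRange
    have hsub : Set.range (O.ι ≫ r.left) ⊆ Set.range δ.left := by
      rintro _ ⟨v, rfl⟩
      exact v.2
    have hl := IsOpenImmersion.lift_fac δ.left _ hsub
    have e₁ : δ.left ≫ (hV.rep.fst' V.obj.hom).left = 𝟙 V.obj.left.left := congrArg (fun e => e.left) hδ₁
    have e₂ : δ.left ≫ (hV.rep.snd V.obj.hom).left = 𝟙 V.obj.left.left := congrArg (fun e => e.left) hδ₂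
    refine EtOver.hom_ext _ _ (Over.OverMorphism.ext ?_)
    change O.ι ≫ a.hom.left.left = O.ι ≫ b.hom.left.left
    rw [show a.hom.left.left = r.left ≫ (hV.rep.fst' V.obj.hom).left from (congrArg (fun e => e.left) hr₁).symm,
      show b.hom.left.left = r.left ≫ (hV.rep.snd V.obj.hom).left from (congrArg (fun e => e.left) hr₂).symm,
      ← Category.assoc, ← Category.assoc, ← hl, Category.assoc, Category.assoc, e₁, e₂]

end Groth.Agent.AlgSpQ4.MV
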