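import Groth.Agent.AlgSpQ4.FieldPts
import Groth.Agent.AlgSpDec.FreeQuotSep
import Groth.Agent.AlgSpDec.LqfSplitZ
import Groth.Agent.SGA1Q.SigmaFinite
import Groth.Agent.AlgSpLib.Descends
import Groth.Agent.EtFound.Descent
import Mathlib.AlgebraicGeometry.Morphisms.LocalFlatDescent

/-!
# The space of unordered tuples of distinct points of a chart
-/

set_option backward.isDefEq.respectTransparency false
set_option backward.isDefEq.respectTransparency.types false

universe u

open CategoryTheory Limits AlgebraicGeometry AlgSp Groth.Agent.AlgSpLib Groth.Agent.AlgSpPts Groth.Agent.AlgSpDec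

namespace Groth.Agent.AlgSpQ4

variable {S : Scheme.{u}} {X : Sp S} {U : Over S} {a : (yon S).obj U ⟶ X}

/-- The permutation action on a scheme of distinct tuples. -/
theorem exists_perm_action {P : Over S} {n : ℕ} {x : Fin (n + 1) → (P ⟶ U)} (hc : Compat a x) (hd : PtDistinct x)
    (hext : ∀ {T : Over S} (l l' : T ⟶ P), (∀ i, l ≫ x i = l' ≫ x i) → l = l')
    (hlift : ∀ {T : Over S} (y : Fin (n + 1) → (T ⟶ U)), Compat a y → PtDistinct y →
        ∃ l : T ⟶ P, ∀ i, l ≫ x i = y i) :
    ∃ ρ : ULift.{u} (Equiv.Perm (Fin (n + 1))) →* Aut P, ∀ g i, (ρ g).hom ≫ x i = x (g.down.symm i) := by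
  have key : ∀ g : Equiv.Perm (Fin (n + 1)), ∃ l : P ⟶ P, ∀ i, l ≫ x i = x (g.symm i) := fun g =>
    hlift _ (fun i => (hc _).trans (hc _).symm) (fun z i j hij => hd z _ _ fun e => hij (g.symm.injective e))
  choose A hA using key
  have hmul : ∀ g h : Equiv.Perm (Fin (n + 1)), A (g * h) = A h ≫ A g := fun g h => hext _ _ fun i => by
    rw [hA, Category.assoc, hA, hA]; rfl
  have hone : A 1 = 𝟙 P := hext _ _ fun i => by rw [hA, Category.id_comp]; rfl
  let ρ : ULift.{u} (Equiv.Perm (Fin (n + 1))) →* Aut P :=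
    { toFun := fun g => ⟨A g.down, A g.down⁻¹, by rw [← hmul, inv_mul_cancel, hone],
        by rw [← hmul, mul_inv_cancel, hone]⟩
      map_one' := Aut.ext hone
      map_mul' := fun g h => Aut.ext (hmul g.down h.down) }
  exact ⟨ρ, fun g i => hA g.down i⟩

/-- The data of a space of unordered distinct tuples. -/
structure TupleSpace (a : (yon S).obj U ⟶ X) (n : ℕ) where
  P : Over S
  x : Fin (n + 1) → (P ⟶ U)
  Q : Sp S
  π : (yon S).obj P ⟶ Q
  ψ : Q ⟶ X
  compat : Compat a x
  distinct : PtDistinct x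
  etale₀ : Etale (x 0).left
  sep₀ : IsSeparated (x 0).left
  hom_ext : ∀ {T : Over S} (l l' : T ⟶ P), (∀ i, l ≫ x i = l' ≫ x i) → l = l'
  lift : ∀ {T : Over S} (y : Fin (n + 1) → (T ⟶ U)), Compat a y → PtDistinct y →
    ∃ l : T ⟶ P, ∀ i, l ≫ x i = y i
  algSpace : IsAlgSpace Q
  etale : RepWith @Etale π
  finite : RepWith @IsFinite π
  surj : RepWith @Surjective π
  π_ψ : π ≫ ψ = (yon S).map (x 0) ≫ a
  perm : ∀ {T : Over S} (l l' : T ⟶ P) (g : Equiv.Perm (Fin (n + 1))),
    (∀ i, l ≫ x i = l' ≫ x (g i)) → (yon S).map l ≫ π = (yon S).map l' ≫ π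
  finite_fibre : ∀ v : P.left, (Points.ofPt π ⁻¹' {Points.ofPt π v}).Finite

theorem exists_tupleSpace (ha : RepWith @Etale a) [IsAffine U.left] (n : ℕ) : Nonempty (TupleSpace a n) := by
  obtain ⟨P, x, hc, hd, hxe, hxs, hext, hlift⟩ := exists_distinct_tuples ha n
  obtain ⟨ρ, hρ⟩ := exists_perm_action hc hd hext hlift
  let G := ULift.{u} (Equiv.Perm (Fin (n + 1)))
  let c : Cofan (fun _ : G => P) := Cofan.mk (∐ fun _ : G => P) (Sigma.ι fun _ : G => P)
  have hcl : IsColimit c := coproductIsCoproduct _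
  let s : c.pt ⟶ P := Sigma.desc fun _ : G => 𝟙 P
  let t : c.pt ⟶ P := Sigma.desc fun g : G => (ρ g).hom
  have hs : ∀ g, c.inj g ≫ s = 𝟙 P := fun g => Sigma.ι_desc _ g
  have ht : ∀ g, c.inj g ≫ t = (ρ g).hom := fun g => Sigma.ι_desc _ g
  have hfree : ∀ (g : G) (v : P.left), g ≠ 1 →
      P.left.fromSpecResidueField v ≫ (ρ g).hom.left ≠ P.left.fromSpecResidueField v := by
    intro g v hg e
    refine hg (ULift.ext (x := g) (y := 1) (Equiv.ext fun i => ?_))
    have e' : resι v ≫ (ρ g).hom = resι v := Over.OverMorphism.ext e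
    by_contra hne
    refine hd v i (g.down i) (fun h => hne h.symm) ?_
    have := congrArg (· ≫ x (g.down i)) e'
    simp only [Category.assoc, hρ, Equiv.symm_apply_apply] at this
    exact this
  have H := FreeAction.isEtaleEqvRel hfree hcl hs ht
  have := H.etale_left
  have : Surjective s.left := ⟨fun v => ⟨(c.inj 1).left v, by
    rw [← Scheme.Hom.comp_apply, ← Over.comp_left, hs]; rfl⟩⟩
  have : IsFinite s.left := by
    obtain ⟨e, he⟩ := FreeAction.exists_iso hcl
    have hfin : IsFinite (e.hom ≫ s.left) := by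
      have : e.hom ≫ s.left = Sigma.desc fun _ : G => 𝟙 P.left := Sigma.hom_ext _ _ fun g => by
        rw [← Category.assoc, he, Sigma.ι_desc, ← Over.comp_left, hs]; rfl
      rw [this]
      exact SGA1Q.isFinite_sigmaDesc _ fun _ => inferInstance
    exact (MorphismProperty.cancel_left_of_respectsIso @IsFinite e.hom s.left).1 hfin
  have : Sheaf.IsLocallySurjective (quotMap s t) := by
    have : Epi (QuotSh.quotπ Scheme.fppfPrecoverage s t) := by
      unfold QuotSh.quotπ
      infer_instance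
    exact (CategoryTheory.Sheaf.isLocallySurjective_iff_epi (quotMap s t)).2 (epi_comp _ _)
  have sq := isPullback_quotMap H.toIsEqvRel
  have hr : Representable (quotMap s t) := representable_of_kernelPair sq
  have := isLocalAtTarget_fppf (@Etale : MorphismProperty Scheme.{u})
  have := isLocalAtTarget_fppf (@Surjective : MorphismProperty Scheme.{u})
  have := EtFound.fpqc_isFinite.{u}
  have := isLocalAtTarget_fppf (@IsFinite : MorphismProperty Scheme.{u})
  have he : RepWith @Etale (quotMap s t) :=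
    repWith_of_locallySurjective hr _ sq @Etale ((repWith_yon_map_iff _ _).2 ‹Etale s.left›)
  have hsj : RepWith @Surjective (quotMap s t) :=
    repWith_of_locallySurjective hr _ sq @Surjective ((repWith_yon_map_iff _ _).2 ‹Surjective s.left›)
  have hfi : RepWith @IsFinite (quotMap s t) :=
    repWith_of_locallySurjective hr _ sq @IsFinite ((repWith_yon_map_iff _ _).2 ‹IsFinite s.left›)
  -- the map to the space
  have sqR : IsPullback ((yon S).map (ha.rep.fst' a)) ((yon S).map (ha.rep.snd a)) a a := ha.rep.isPullback' a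
  choose D hD₁ hD₂ using fun g : G => exists_rel_lift sqR ((ρ g).hom ≫ x 0) (x 0) (by
    rw [hρ]; exact hc _)
  let DD : c.pt ⟶ ha.rep.pullback a := Sigma.desc D
  have hDD : ∀ g, c.inj g ≫ DD = D g := fun g => Sigma.ι_desc _ g
  have hDD₁ : DD ≫ ha.rep.fst' a = t ≫ x 0 := Cofan.IsColimit.hom_ext hcl _ _ fun g => by
    rw [reassoc_of% hDD, hD₁, reassoc_of% ht]
  have hDD₂ : DD ≫ ha.rep.snd a = s ≫ x 0 := Cofan.IsColimit.hom_ext hcl _ _ fun g => by
    rw [reassoc_of% hDD, hD₂, reassoc_of% hs]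
  obtain ⟨ψ, hψ⟩ := exists_desc_of_kernelPair sq ((yon S).map (x 0) ≫ a) (by
    rw [← Functor.map_comp_assoc, ← Functor.map_comp_assoc, ← hDD₁, ← hDD₂, Functor.map_comp, Functor.map_comp,
      Category.assoc, Category.assoc, sqR.w])
  have hπρ : ∀ g : G, (yon S).map (ρ g).hom ≫ quotMap s t = quotMap s t := fun g => by
    rw [← ht, Functor.map_comp, Category.assoc, sq.w, ← Functor.map_comp_assoc, hs]
    simp
  refine ⟨⟨P, x, _, quotMap s t, ψ, hc, hd, hxe, hxs, hext, hlift, isAlgSpace_of_etale_kernelPair sq, he, hfi,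
    hsj, hψ, fun l l' g hg => ?_, fun v => ?_⟩⟩
  · have : l = l' ≫ (ρ ⟨g⁻¹⟩).hom := hext _ _ fun i => by
      rw [Category.assoc, hρ, hg]; rfl
    rw [this, Functor.map_comp, Category.assoc, hπρ]
  · refine (Set.finite_range (fun g : G => (ρ g).hom.left v)).subset fun v' hv' => ?_
    obtain ⟨r, hr₁, hr₂⟩ := exists_ofPt_of_eq sq (u := v') (v := v) hv'
    obtain ⟨g, w, rfl⟩ := FreeAction.exists_inj hcl r
    rw [← Scheme.Hom.comp_apply, ← Over.comp_left, ht] at hr₁
    rw [← Scheme.Hom.comp_apply, ← Over.comp_left, hs] at hr₂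
    have hw : w = v := hr₂
    subst hw
    exact ⟨g, hr₁⟩

end Groth.Agent.AlgSpQ4
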