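import Groth.Agent.AlgSpQ4.ChartLift
import Groth.Agent.AlgSpDec.LqfQuot

/-!
# Charts receiving all points over quotients of a henselian local ring
-/

set_option backward.isDefEq.respectTransparency false
set_option backward.isDefEq.respectTransparency.types false

universe u

open CategoryTheory Limits AlgebraicGeometry AlgSp Groth.Agent.AlgSpLib Groth.Agent.AlgSpPts Groth.Agent.AlgSpDec

namespace Groth.Agent.AlgSpQ4

variable {S : Scheme.{u}} {X : Sp S}

/-- A disjoint union of affine schemes is separated over any base. -/
theorem isSeparated_sigmaOver {ι : Type u} (T : ι → Over S) (h : ∀ i, IsAffine (T i).left) :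
    IsSeparated (sigmaOver T).hom := by
  let e : (∐ fun i => (T i).left) ⟶ (∐ fun i => Spec Γ((T i).left, ⊤)) :=
    Limits.Sigma.map fun i => (T i).left.isoSpec.hom
  let j := e ≫ sigmaSpec fun i => Γ((T i).left, ⊤)
  have : IsSeparated j := inferInstance
  have : (sigmaOver T).left.IsSeparated := ⟨by
    rw [show terminal.from (sigmaOver T).left = j ≫ terminal.from _ from (terminal.comp_from j).symm]
    infer_instance⟩
  exact IsSeparated.of_comp (sigmaOver T).hom (terminal.from S)

variable {R : Type u} [CommRing R] [HenselianLocalRing R] {str : Spec (CommRingCat.of R) ⟶ S}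

/-- An empty scheme maps to every scheme over the base, uniquely into every space. -/
theorem exists_lift_of_top (Z : Over S) (p : (yon S).obj Z ⟶ X) (a : Ideal R) (ha : a = ⊤)
    (x : (yon S).obj (quotOver a str) ⟶ X) : ∃ g : quotOver a str ⟶ Z, (yon S).map g ≫ p = x := by
  have : Subsingleton (R ⧸ a) := Ideal.Quotient.subsingleton_iff.2 ha
  have he : IsEmpty (quotOver a str).left := inferInstanceAs (IsEmpty (PrimeSpectrum (R ⧸ a)))
  refine ⟨Over.homMk ((isInitialOfIsEmpty (X := (quotOver a str).left)).to Z.left)
    ((isInitialOfIsEmpty (X := (quotOver a str).left)).hom_ext _ _), ?_⟩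
  exact hom_ext_of_isEmpty _ _

/-- A family of affine charts through every closed point receives every point over a quotient. -/
theorem exists_sigma_chart_lift (hX : IsAlgSpace X) :
    ∃ (ι : Type u) (T : ι → Over S) (p : (yon S).obj (sigmaOver T) ⟶ X),
      (Finite ((yon S).obj (closedOver R str) ⟶ X) → Finite ι) ∧
      (∀ i, IsAffine (T i).left) ∧ RepWith @Etale p ∧
      ∀ (a : Ideal R) (x : (yon S).obj (quotOver a str) ⟶ X),
        ∃ g : quotOver a str ⟶ sigmaOver T, (yon S).map g ≫ p = x := by
  have : Small.{u} ((yon S).obj (closedOver R str) ⟶ X) :=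
    small_fieldPoints (k := IsLocalRing.ResidueField R) (σ := (closedOver R str).hom) hX
  choose T m g hT hm hg using fun i : Shrink.{u} ((yon S).obj (closedOver R str) ⟶ X) =>
    exists_affine_chart_through (k := IsLocalRing.ResidueField R) (σ := (closedOver R str).hom) hX
      ((equivShrink ((yon S).obj (closedOver R str) ⟶ X)).symm i)
  obtain ⟨p, hp⟩ := exists_hom_sigma T m
  have hpe : RepWith @Etale p :=
    repWith_etale_sigma (hX.representable_from_yon p) fun i => by rw [hp]; exact hm i
  refine ⟨_, T, p, fun _ => Finite.of_equiv _ (equivShrink _), hT, hpe, fun a x => ?_⟩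
  by_cases ha : a = ⊤
  · exact exists_lift_of_top _ p a ha x
  obtain ⟨x₀, hx₀⟩ := exists_lift_quot hpe a ha x
  refine hx₀ (g (equivShrink _ x₀) ≫ sigmaι T _) ?_
  rw [Functor.map_comp, Category.assoc, hp, hg, ]
  exact Equiv.symm_apply_apply _ _

end Groth.Agent.AlgSpQ4
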