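import Groth.Agent.AlgSpPts.ProperSubspace
import Groth.Agent.AlgSpPts.SepDescent

/-!
# Finite unions of closed subspaces proper over a base
-/

set_option backward.isDefEq.respectTransparency false
set_option backward.isDefEq.respectTransparency.types false

universe u

open CategoryTheory Limits AlgebraicGeometry AlgSp Groth.Agent.AlgSpLib Groth.Agent.AlgSpPts

namespace Groth.Agent.AlgSpQ4

variable {S : Scheme.{u}}

/-- Universal closedness descends along finite jointly surjective families. -/
theorem univClosed_of_finite_family {ι : Type*} [Finite ι] {W G : Sp S} {R : ι → Sp S} (g : W ⟶ G)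
    (r : ∀ k, R k ⟶ W) (hs : ∀ w, ∃ k z, Points.map (r k) z = w)
    (hc : ∀ k, IsUnivClosedMor (r k ≫ g)) : IsUnivClosedMor g := by
  intro T W' hT t fst snd sq A hA
  let l : ∀ k, pullback (r k) fst ⟶ W' := fun k => pullback.snd (r k) fst
  have hcl : ∀ k, IsClosed (Points.map (l k ≫ snd) '' (Points.map (l k) ⁻¹' A)) := fun k =>
    hc k hT t _ _ ((IsPullback.of_hasPullback (r k) fst).flip.paste_horiz sq.flip).flip _
      (hA.preimage (Points.continuous_map _))
  have e : Points.map snd '' A = ⋃ k, Points.map (l k ≫ snd) '' (Points.map (l k) ⁻¹' A) := by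
    ext z
    simp only [Set.mem_iUnion, Set.mem_image, Set.mem_preimage]
    constructor
    · rintro ⟨a, ha, rfl⟩
      obtain ⟨k, x, hx⟩ := hs (Points.map fst a)
      obtain ⟨v, -, hv⟩ := exists_point_of_isPullback (IsPullback.of_hasPullback (r k) fst) hx
      exact ⟨k, v, (show Points.map (l k) v = a from hv) ▸ ha, by rw [Points.map_comp]; exact congrArg _ hv⟩
    · rintro ⟨k, v, hv, rfl⟩
      exact ⟨_, hv, (Points.map_comp _ _ _).symm⟩
  rw [e]
  exact isClosed_iUnion_of_finite hcl

/-- A closed subspace covered by finitely many spaces proper over the base is proper over it. -/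
theorem isProperMor_of_finite_family {ι : Type*} [Finite ι] {X B W : Space S} {R : ι → Space S}
    (f : X ⟶ B) (hf : LocP @LocallyOfFiniteType f.hom) (j : W ⟶ X) (hj : RepWith @IsClosedImmersion j.hom)
    (r : ∀ k, R k ⟶ W) (hs : ∀ w, ∃ k z, Points.map (r k).hom z = w)
    (hrj : ∀ k, IsUnivClosedMor (r k ≫ j).hom) (hR : ∀ k, IsProperMor (r k ≫ j ≫ f).hom) :
    IsProperMor (j ≫ f).hom := by
  let q := (j ≫ f).hom
  have := ProperSub.mono_closedImmersion hj
  have hrc : ∀ k, IsUnivClosedMor (r k).hom := fun k => ProperSub.univClosed_of_comp_mono _ j.hom (hrj k)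
  have huc : IsUnivClosedMor q := univClosed_of_finite_family q (fun k => (r k).hom) hs fun k => (hR k).2.2
  have hWW := isAlgSpace_pullback W.property W.property B.property q q
  have hdiag : IsUnivClosedMor (pullback.diagonal q) := by
    refine univClosed_of_finite_family _ (fun k => (r k).hom) hs fun k => ?_
    have e : pullback.diagonal ((r k).hom ≫ q) ≫ selfMap (r k).hom q = (r k).hom ≫ pullback.diagonal q := by
      apply pullback.hom_ext <;> simp
    rw [← e]
    have hRR := isAlgSpace_pullback (R k).property (R k).property B.property ((r k).hom ≫ q) ((r k).hom ≫ q)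
    refine isUnivClosedMor_comp hRR hWW (isProperMor_of_closedImmersion (hR k).1).2.2 ?_
    rw [selfMap_eq]
    exact isUnivClosedMor_comp (isAlgSpace_pullback W.property (R k).property B.property q ((r k).hom ≫ q)) hWW
      (isUnivClosedMor_of_isPullback (isPullback_map_left (r k).hom q _) (hrc k))
      (isUnivClosedMor_of_isPullback (isPullback_map_right (r k).hom q _) (hrc k))
  obtain ⟨hr, hl, -, -, hmono⟩ := diagonal_package W.property B.property q
  have : Mono (pullback.diagonal q) := mono_of_repWith hmono
  exact ⟨repWith_isClosedImmersion_of_univClosed hr hl hdiag,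
    ⟨locP_comp W.property X.property B.property (isProperMor_of_closedImmersion hj).2.1.1 hf,
      isQuasiCompactMor_of_univClosed W.property B.property huc⟩, huc⟩

/-- Finite unions of closed subspaces proper over the base underlie one. -/
theorem exists_closedSubspace_iUnion {ι : Type*} [Finite ι] {X B : Space S} {Z : ι → Space S} (f : X ⟶ B)
    (hf : LocP @LocallyOfFiniteType f.hom) (i : ∀ k, Z k ⟶ X) (hi : ∀ k, RepWith @IsClosedImmersion (i k).hom)
    (hZ : ∀ k, IsProperMor (i k ≫ f).hom) :
    ∃ (W : Space S) (j : W ⟶ X), RepWith @IsClosedImmersion j.hom ∧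
      Set.range (Points.map j.hom) = ⋃ k, Set.range (Points.map (i k).hom) ∧ IsProperMor (j ≫ f).hom := by
  have hcl : IsClosed (⋃ k, Set.range (Points.map (i k).hom)) := isClosed_iUnion_of_finite fun k =>
    ProperSub.isClosed_range_of_univClosed X.property (isProperMor_of_closedImmersion (hi k)).2.2
  obtain ⟨W, j, hj, hjr, -⟩ := S10192.result X _ hcl
  choose R m hm hmr hR using fun k => S10192.result (Z k) Set.univ isClosed_univ
  have hex : ∀ k, ∃ r : R k ⟶ W, r ≫ j = m k ≫ i k := fun k => (S10193.result j hj (hR k) (m k ≫ i k)).2 (by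
    rw [hjr]; rintro _ ⟨z, rfl⟩
    exact Set.mem_iUnion.2 ⟨k, Points.map (m k).hom z, (Points.map_comp (m k).hom _ z).symm⟩)
  choose r hr using hex
  refine ⟨W, j, hj, hjr, isProperMor_of_finite_family f hf j hj r (fun w => ?_) (fun k => ?_) (fun k => ?_)⟩
  · obtain ⟨k, y, hy⟩ := Set.mem_iUnion.1 (show Points.map j.hom w ∈ ⋃ k, Set.range (Points.map (i k).hom) from hjr ▸ ⟨w, rfl⟩)
    obtain ⟨z, rfl⟩ : y ∈ Set.range (Points.map (m k).hom) := (hmr k).symm ▸ trivial
    refine ⟨k, z, injective_map (repWith_mono (fun _ _ g (_ : IsClosedImmersion g) => g.isClosedEmbedding.injective) _ hj) ?_⟩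
    rw [← Points.map_comp, show (r k).hom ≫ j.hom = (m k).hom ≫ (i k).hom from congrArg (·.hom) (hr k),
      Points.map_comp, hy]
  · rw [hr]
    exact isUnivClosedMor_comp (Z k).property X.property (isProperMor_of_closedImmersion (hm k)).2.2
      (isProperMor_of_closedImmersion (hi k)).2.2
  · rw [← Category.assoc, hr, Category.assoc]
    exact isProperMor_comp (R k).property (Z k).property B.property (isProperMor_of_closedImmersion (hm k)) (hZ k)

end Groth.Agent.AlgSpQ4
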