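import Groth.Agent.AlgSpLib.CartierAvoid
import Groth.Agent.AlgSpDec.EtSite
import Groth.Prelude.Def_AlgSpModX

/-!
# Elementary properties of weakly associated points
-/

set_option backward.isDefEq.respectTransparency false
set_option backward.isDefEq.respectTransparency.types false

universe u

open CategoryTheory CategoryTheory.Limits AlgebraicGeometry Opposite AlgSp Groth.Agent.AlgSpLib Groth.Agent.AlgSpDec

namespace Groth.Agent.AlgSpQ4

variable {S : Scheme.{u}} {X : Sp S}

/-- Sections are separated for etale coverings. -/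
theorem sect_ext (M : ModEt X) {E : EtOver X} {ι : Type*} (Y : ι → EtOver X) (g : ∀ i, Y i ⟶ E)
    (hc : ∀ x : ↥E.obj.left.left, ∃ i, x ∈ Set.range (g i).hom.left.left) {s t : sectModEt M E}
    (h : ∀ i, M.val.map (g i).op s = M.val.map (g i).op t) : s = t := by
  have hsh : Presieve.IsSheaf (etTop X) (M.val.presheaf ⋙ forget AddCommGrpCat) :=
    (isSheaf_iff_isSheaf_of_type _ _).1 ((Presheaf.isSheaf_iff_isSheaf_forget _ _ (forget AddCommGrpCat)).1 M.isSheaf)
  refine ((hsh _ (AlgSp.ofArrows_mem_etTop Y g hc)).isSeparatedFor).ext fun V f hf => ?_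
  obtain ⟨i, k, rfl⟩ := (Sieve.mem_ofArrows_iff _ _ _).1 hf
  change M.val.presheaf.map (k ≫ g i).op s = M.val.presheaf.map (k ≫ g i).op t
  rw [op_comp, Functor.map_comp, ConcreteCategory.comp_apply, ConcreteCategory.comp_apply]
  exact congrArg _ (h i)

/-- A nonzero section on an affine chart gives a weakly associated point. -/
theorem exists_isWeakAssOn (M : ModEt X) (E : EtOver X) [IsAffine E.obj.left.left] {s : sectModEt M E} (hs : s ≠ 0) :
    ∃ w, IsWeakAssOn M E w ∧ annSect s ≤ primeAtPt E.obj.left.left w := by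
  have hann : annSect s ≠ ⊤ := fun ht => hs (by
    have h1 := (mem_annSect_iff s 1).1 (ht ▸ trivial)
    rwa [map_one, one_smul] at h1)
  obtain ⟨P, hP⟩ := Ideal.nonempty_minimalPrimes hann
  have : P.IsPrime := hP.1.1
  obtain ⟨w, hw⟩ := Cartier.exists_primeAtPt_eq P
  exact ⟨w, ⟨s, hw.symm ▸ hP⟩, hw.symm ▸ hP.1.2⟩

/-- A module without weakly associated points is zero. -/
theorem isZero_of_weakAssEt_eq_empty (M : ModEt X) (h : WeakAssEt M = ∅) : IsZero M := by
  have ha : ∀ (E : EtOver X) (_ : IsAffine E.obj.left.left) (s : sectModEt M E), s = 0 := fun E hE s => by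
    by_contra hs
    obtain ⟨w, hw, -⟩ := exists_isWeakAssOn M E hs
    exact (Set.eq_empty_iff_forall_notMem.1 h) _ ⟨E, hE, w, rfl, hw⟩
  have hall : ∀ (E : EtOver X) (s : sectModEt M E), s = 0 := fun E s => by
    refine sect_ext M (fun W : E.obj.left.left.affineOpens => etOpen E W.1) (fun W => etOpenι E W.1)
      (fun x => ?_) fun W => ?_
    · obtain ⟨W, hW, hxW, -⟩ := exists_isAffineOpen_mem_and_subset (U := (⊤ : E.obj.left.left.Opens)) (x := x) trivial
      exact ⟨⟨W, hW⟩, (range_etOpenι E W).ge hxW⟩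
    · rw [map_zero]
      exact ha (etOpen E W.1) W.2 _
  rw [IsZero.iff_id_eq_zero]
  ext E s
  exact (hall E.unop _).trans (hall E.unop _).symm

theorem weakAssEt_eq_empty_of_isZero (M : ModEt X) (h : IsZero M) : WeakAssEt M = ∅ := by
  refine Set.eq_empty_iff_forall_notMem.2 ?_
  rintro _ ⟨E, hE, w, rfl, s, hs⟩
  have hz : s = 0 := congrArg (fun φ : M ⟶ M => φ.val.app (op E) s) ((IsZero.iff_id_eq_zero M).1 h)
  have ht : annSect s = ⊤ := (Ideal.eq_top_iff_one _).2 ((mem_annSect_iff s 1).2 (by rw [hz, smul_zero]))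
  rw [ht, Ideal.minimalPrimes_top] at hs
  exact hs

theorem eval_injective_of_shortExact {C : ShortComplex (ModEt X)} (hC : C.ShortExact) (E : EtOver X) :
    Function.Injective (C.f.val.app (op E)) := by
  have := hC.mono_f
  exact (ModuleCat.mono_iff_injective ((SheafOfModules.evaluation (OEtRing X) (op E)).map C.f)).1 inferInstance

theorem exists_preimage_of_shortExact {C : ShortComplex (ModEt X)} (hC : C.ShortExact) (E : EtOver X)
    {s : sectModEt C.X₂ E} (hs : C.g.val.app (op E) s = 0) : ∃ t : sectModEt C.X₁ E, C.f.val.app (op E) t = s := by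
  let F := SheafOfModules.evaluation (OEtRing X) (op E)
  have := hC.mono_f
  have : F.Additive := { map_add := fun {_ _ _ _} => rfl }
  have hE : (C.map F).Exact := ShortComplex.exact_of_f_is_kernel _ (KernelFork.mapIsLimit _ hC.fIsKernel F)
  exact (ShortComplex.moduleCat_exact_iff _).1 hE s hs

theorem weakAssEt_subset_left {C : ShortComplex (ModEt X)} (hC : C.ShortExact) :
    WeakAssEt C.X₁ ⊆ WeakAssEt C.X₂ := by
  rintro _ ⟨E, hE, w, rfl, s, hs⟩
  refine ⟨E, hE, w, rfl, C.f.val.app (op E) s, ?_⟩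
  convert hs using 2
  ext a
  rw [mem_annSect_iff, mem_annSect_iff, ← map_smul]
  exact map_eq_zero_iff _ (eval_injective_of_shortExact hC E)

theorem weakAssEt_subset_middle {C : ShortComplex (ModEt X)} (hC : C.ShortExact) :
    WeakAssEt C.X₂ ⊆ WeakAssEt C.X₁ ∪ WeakAssEt C.X₃ := by
  rintro _ ⟨E, hE, w, rfl, s, hs⟩
  let P := primeAtPt E.obj.left.left w
  have hle : annSect s ≤ annSect (C.g.val.app (op E) s) := fun a ha => by
    rw [mem_annSect_iff] at ha ⊢
    rw [← map_smul, ha, map_zero]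
  by_cases hP : annSect (C.g.val.app (op E) s) ≤ P
  · exact Or.inr ⟨E, hE, w, rfl, _, ⟨⟨inferInstance, hP⟩, fun q hq hqP => hs.2 ⟨hq.1, hle.trans hq.2⟩ hqP⟩⟩
  obtain ⟨c, hc, hcP⟩ := SetLike.not_le_iff_exists.1 hP
  obtain ⟨t, ht⟩ := exists_preimage_of_shortExact hC E (s := upΓ E c • s) (by
    rw [map_smul]; exact (mem_annSect_iff _ c).1 hc)
  have hiff : ∀ a, a ∈ annSect t ↔ a * c ∈ annSect s := fun a => by
    rw [mem_annSect_iff, mem_annSect_iff, map_mul, mul_smul, ← map_eq_zero_iff _ (eval_injective_of_shortExact hC E),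
      map_smul, ht]
  refine Or.inl ⟨E, hE, w, rfl, t, ⟨inferInstance, fun a ha => ?_⟩, fun q hq hqP => hs.2 ⟨hq.1, fun a ha => hq.2 ?_⟩ hqP⟩
  · exact ((inferInstance : P.IsPrime).mem_or_mem (hs.1.2 ((hiff a).1 ha))).resolve_right hcP
  · exact (hiff a).2 (Ideal.mul_mem_right _ _ ha)

end Groth.Agent.AlgSpQ4
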